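import Groth.Prelude.Def_CohTop
import Mathlib.Topology.Sheaves.Sheafify

/-! Stalks of inverse images of abelian sheaves, compatibly with the unit. -/

universe u

open CategoryTheory CategoryTheory.Limits Opposite TopologicalSpace

set_option backward.defeqAttrib.useBackward true
set_option backward.isDefEq.respectTransparency false
set_option autoImplicit false
namespace Groth.L10.Proper

variable {X Y : TopCat.{u}} (f : X ⟶ Y)

/-- The map of stalks along a map `u : G ⟶ f_* G'`. -/
noncomputable def stalkComp {G : CohTop.Ab Y} {G' : CohTop.Ab X} (u : G ⟶ (CohTop.push f).obj G') (x : X) :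
    CohTop.stalk G (f x) ⟶ CohTop.stalk G' x :=
  (TopCat.Presheaf.stalkFunctor AddCommGrpCat.{u} (f x)).map u.hom ≫
    TopCat.Presheaf.stalkPushforward AddCommGrpCat.{u} f G'.obj x

theorem stalkComp_germ {G : CohTop.Ab Y} {G' : CohTop.Ab X} (u : G ⟶ (CohTop.push f).obj G') (x : X)
    (U : Opens Y) (hx : f x ∈ U) (s : G.obj.obj (op U)) :
    stalkComp f u x (TopCat.Presheaf.germ (C := AddCommGrpCat.{u}) (X := Y) G.obj U (f x) hx s) =
      TopCat.Presheaf.germ (C := AddCommGrpCat.{u}) (X := X) G'.obj ((Opens.map f).obj U) x hx (u.hom.app (op U) s) := by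
  rw [stalkComp, ConcreteCategory.comp_apply]
  erw [TopCat.Presheaf.stalkFunctor_map_germ_apply]
  exact TopCat.Presheaf.stalkPushforward_germ_apply _ _ _ _ _ _ _

/-- A map identifying stalks: it behaves as the unit of inverse image. -/
def IsPullUnit {G : CohTop.Ab Y} {G' : CohTop.Ab X} (u : G ⟶ (CohTop.push f).obj G') : Prop :=
  ∀ x : X, Function.Bijective (stalkComp f u x)

theorem IsPullUnit.comp_iso {G : CohTop.Ab Y} {G' G'' : CohTop.Ab X} {u : G ⟶ (CohTop.push f).obj G'}
    (hu : IsPullUnit f u) (c : G' ⟶ G'') [IsIso c] : IsPullUnit f (u ≫ (CohTop.push f).map c) := fun x => by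
  have h : stalkComp f (u ≫ (CohTop.push f).map c) x =
      stalkComp f u x ≫ (TopCat.Presheaf.stalkFunctor AddCommGrpCat.{u} x).map c.hom := by
    refine TopCat.Presheaf.stalk_hom_ext _ fun U hU => ?_
    ext s
    rw [ConcreteCategory.comp_apply, ConcreteCategory.comp_apply, ConcreteCategory.comp_apply, stalkComp_germ,
      stalkComp_germ]
    erw [TopCat.Presheaf.stalkFunctor_map_germ_apply]
    rfl
  rw [h]
  have : IsIso c.hom := inferInstanceAs (IsIso ((sheafToPresheaf _ _).map c))
  exact (ConcreteCategory.bijective_of_isIso ((TopCat.Presheaf.stalkFunctor AddCommGrpCat.{u} x).map c.hom)).comp (hu x)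

/-- The constructed adjunction. -/
noncomputable abbrev adjC :=
  Functor.sheafPullbackConstruction.sheafAdjunctionContinuous (Opens.map f) AddCommGrpCat.{u}
    (Opens.grothendieckTopology Y) (Opens.grothendieckTopology X)

theorem adjC_unit (G : CohTop.Ab Y) :
    ((adjC f).unit.app G).hom =
      (TopCat.Presheaf.pullbackPushforwardAdjunction AddCommGrpCat.{u} f).unit.app G.obj ≫
        (TopCat.Presheaf.pushforward AddCommGrpCat.{u} f).map
          (toSheafify (Opens.grothendieckTopology X) ((TopCat.Presheaf.pullback AddCommGrpCat.{u} f).obj G.obj)) := by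
  have h := Adjunction.map_restrictFullyFaithful_unit_app
    (((Opens.map f).op.lanAdjunction AddCommGrpCat.{u}).comp
      (sheafificationAdjunction (Opens.grothendieckTopology X) AddCommGrpCat.{u}))
    (fullyFaithfulSheafToPresheaf (Opens.grothendieckTopology Y) AddCommGrpCat.{u}) (Functor.FullyFaithful.id _)
    (L := Functor.sheafPullbackConstruction.sheafPullback (Opens.map f) AddCommGrpCat.{u}
      (Opens.grothendieckTopology Y) (Opens.grothendieckTopology X))
    (R := (Opens.map f).sheafPushforwardContinuous AddCommGrpCat.{u}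
      (Opens.grothendieckTopology Y) (Opens.grothendieckTopology X))
    (Iso.refl _) (Iso.refl _) G
  refine h.trans ?_
  simp
  rfl

theorem isPullUnit_adjC (G : CohTop.Ab Y) : IsPullUnit f ((adjC f).unit.app G) := fun x => by
  let P := (TopCat.Presheaf.pullback AddCommGrpCat.{u} f).obj G.obj
  have h : stalkComp f ((adjC f).unit.app G) x =
      TopCat.Presheaf.stalkPullbackHom AddCommGrpCat.{u} f G.obj x ≫
        (TopCat.Presheaf.stalkFunctor AddCommGrpCat.{u} x).map
          (toSheafify (Opens.grothendieckTopology X) P) := by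
    refine TopCat.Presheaf.stalk_hom_ext _ fun U hU => ?_
    ext s
    rw [ConcreteCategory.comp_apply, ConcreteCategory.comp_apply, ConcreteCategory.comp_apply, stalkComp_germ,
      adjC_unit]
    have h1 := congr($(TopCat.Presheaf.germ_stalkPullbackHom AddCommGrpCat.{u} f G.obj x U hU) s)
    rw [ConcreteCategory.comp_apply, ConcreteCategory.comp_apply] at h1
    erw [h1, TopCat.Presheaf.stalkFunctor_map_germ_apply]
    rfl
  rw [h]
  have h1 : IsIso (TopCat.Presheaf.stalkPullbackHom AddCommGrpCat.{u} f G.obj x) :=
    (TopCat.Presheaf.stalkPullbackIso AddCommGrpCat.{u} f G.obj x).isIso_hom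
  have h2 := TopCat.Presheaf.stalkFunctor_map_unit_toSheafify_isIso x AddCommGrpCat.{u} P
  exact ConcreteCategory.bijective_of_isIso _

/-- The unit of inverse image identifies stalks. -/
theorem isPullUnit_unit (G : CohTop.Ab Y) :
    IsPullUnit f ((TopCat.Sheaf.pullbackPushforwardAdjunction AddCommGrpCat.{u} f).unit.app G) := by
  let adj := TopCat.Sheaf.pullbackPushforwardAdjunction AddCommGrpCat.{u} f
  have h := Adjunction.unit_leftAdjointUniq_hom_app (adjC f) adj G
  rw [← h]
  exact (isPullUnit_adjC f G).comp_iso f ((Adjunction.leftAdjointUniq (adjC f) adj).hom.app G)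

end Groth.L10.Proper
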