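import Groth.Agent.L10.Proper.PushFormula

/-! The cosimplicial group of sections of an injective sheaf is acyclic. -/

universe u

open CategoryTheory CategoryTheory.Limits Opposite Simplicial TopologicalSpace AlgebraicTopology
open Pseudofunctor.CoGrothendieck
open Groth.L09.SpaceSite Groth.L09

set_option backward.defeqAttrib.useBackward true
set_option backward.isDefEq.respectTransparency false
set_option backward.isDefEq.respectTransparency.types false
set_option autoImplicit false
namespace Groth.L10.Proper

open Groth.L10.Descent (Tot toBot pre lev augFree)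

variable (Y : (WithInitial SimplexCategory)ᵒᵖ ⥤ TopCat.{u}) (U : Opens (base Y))

/-- The cosimplicial group of sections. -/
noncomputable abbrev coX (M : Sheaf (JP Y) AddCommGrpCat.{u}) : CosimplicialObject AddCommGrpCat.{u} :=
  (objU Y U).rightOp ⋙ M.obj

/-- The differential. -/
noncomputable abbrev dd (M : Sheaf (JP Y) AddCommGrpCat.{u}) (n : ℕ) :=
  AlternatingCofaceMapComplex.objD (coX Y U M) n

/-- Exactness in positive degrees. -/
def CoExact (M : Sheaf (JP Y) AddCommGrpCat.{u}) : Prop :=
  ∀ (n : ℕ) (t : M.obj.obj (op ((objU Y U).obj (lv (n + 1))))), dd Y U M (n + 1) t = 0 →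
    ∃ s : M.obj.obj (op ((objU Y U).obj (lv n))), dd Y U M n s = t

theorem dd_dd (M : Sheaf (JP Y) AddCommGrpCat.{u}) (n : ℕ) (s : M.obj.obj (op ((objU Y U).obj (lv n)))) :
    dd Y U M (n + 1) (dd Y U M n s) = 0 :=
  ConcreteCategory.congr_hom (AlternatingCofaceMapComplex.d_squared (coX Y U M) n) s

theorem dd_natural {M N : Sheaf (JP Y) AddCommGrpCat.{u}} (φ : M ⟶ N) (n : ℕ)
    (s : M.obj.obj (op ((objU Y U).obj (lv n)))) :
    φ.hom.app (op ((objU Y U).obj (lv (n + 1)))) (dd Y U M n s) =
      dd Y U N n (φ.hom.app (op ((objU Y U).obj (lv n))) s) := by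
  have h : dd Y U M n ≫ φ.hom.app (op ((objU Y U).obj (lv (n + 1)))) =
      φ.hom.app (op ((objU Y U).obj (lv n))) ≫ dd Y U N n := by
    simp only [dd, AlternatingCofaceMapComplex.objD, Preadditive.sum_comp, Preadditive.comp_sum,
      Preadditive.zsmul_comp, Preadditive.comp_zsmul]
    refine Finset.sum_congr rfl fun i _ => congrArg _ ?_
    exact φ.hom.naturality ((objU Y U).map (SimplexCategory.δ i).op).op
  exact ConcreteCategory.congr_hom h s

/-- The simplicial presheaf of preimages. -/
noncomputable abbrev levU : SimplicialObject ((Tot Y)ᵒᵖ ⥤ Type u) := objU Y U ⋙ yoneda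

theorem dd_apply (M : Sheaf (JP Y) AddCommGrpCat.{u}) (n : ℕ) (g : SiteCoh.fp ((objU Y U).obj (lv n)) ⟶ M.obj) :
    SiteCoh.fpEquiv ((objU Y U).obj (lv (n + 1))) M.obj (Hyper.dP (levU Y U) n ≫ g) =
      dd Y U M n (SiteCoh.fpEquiv ((objU Y U).obj (lv n)) M.obj g) := by
  simp only [dd, AlternatingCofaceMapComplex.objD, Hyper.dP, Preadditive.sum_comp, Preadditive.zsmul_comp,
    map_sum, map_zsmul]
  let E : ((coX Y U M).obj ⦋n⦌ ⟶ (coX Y U M).obj ⦋n + 1⦌) →+ M.obj.obj (op ((objU Y U).obj (lv (n + 1)))) :=
    AddMonoidHom.mk' (fun φ => φ (SiteCoh.fpEquiv ((objU Y U).obj (lv n)) M.obj g)) (fun _ _ => rfl)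
  refine Eq.trans ?_ (map_sum E _ _).symm
  refine Finset.sum_congr rfl fun i _ => ?_
  rw [map_zsmul]
  exact congrArg _ (SiteCoh.fpEquiv_map ((objU Y U).map (SimplexCategory.δ i).op) g)

/-- Forgetting the open of the base. -/
noncomputable def toTop : objU Y U ⟶ Descent.topObj Y where
  app i := homP (X := (objU Y U).obj i) (Z := (Descent.topObj Y).obj i) (𝟙 i) (fun _ _ => trivial)
  naturality i k h := homP_ext (by
    show h ≫ 𝟙 k = 𝟙 i ≫ h
    simp)

/-- The induced map of free presheaves. -/
noncomputable def toTopFree : Hyper.freeP (levU Y U) ⟶ Hyper.freeP (lev Y) :=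
  Functor.whiskerRight (Functor.whiskerRight (toTop Y U) yoneda) ((Functor.whiskeringRight _ _ _).obj AddCommGrpCat.free.{u})

theorem exact_free (n : ℕ) :
    (ShortComplex.mk (Hyper.dP (levU Y U) (n + 1)) (Hyper.dP (levU Y U) n)
      (AlternatingFaceMapComplex.d_squared (Hyper.freeP (levU Y U)) n)).Exact := by
  have hlev : (ShortComplex.mk (Hyper.dP (lev Y) (n + 1)) (Hyper.dP (lev Y) n)
      (AlternatingFaceMapComplex.d_squared (Hyper.freeP (lev Y)) n)).Exact := by
    have h := Descent.quasiIso_aug Y
    rw [quasiIso_iff] at h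
    have h1 : ((AlternatingFaceMapComplex.obj (augFree Y).left)).ExactAt (n + 1) := by
      rw [HomologicalComplex.exactAt_iff_isZero_homology]
      have := (quasiIsoAt_iff_isIso_homologyMap _ _).1 (h (n + 1))
      exact IsZero.of_iso ((HomologicalComplex.exactAt_iff_isZero_homology _ _).1
          (HomologicalComplex.exactAt_single_obj _ _ _ _ (by omega)))
        (@asIso _ _ _ _ (HomologicalComplex.homologyMap (AlternatingFaceMapComplex.ε.app (augFree Y)) (n + 1)) this)
    rw [HomologicalComplex.exactAt_iff' _ (n + 1 + 1) (n + 1) n (by simp) (by simp)] at h1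
    refine (ShortComplex.exact_iff_of_iso ?_).1 h1
    exact ShortComplex.isoMk (Iso.refl _) (Iso.refl _) (Iso.refl _)
      ((Category.id_comp _).trans ((AlternatingFaceMapComplex.obj_d_eq (Hyper.freeP (lev Y)) (n + 1)).symm.trans
        (Category.comp_id _).symm))
      ((Category.id_comp _).trans ((AlternatingFaceMapComplex.obj_d_eq (Hyper.freeP (lev Y)) n).symm.trans
        (Category.comp_id _).symm))
  rw [ShortComplex.exact_iff_isZero_homology]
  refine Functor.isZero _ fun X => ?_
  refine IsZero.of_iso ?_ ((ShortComplex.mk _ _ _).mapHomologyIso ((evaluation _ _).obj X)).symm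
  rw [← ShortComplex.exact_iff_isZero_homology]
  by_cases hX : obP X.unop ≤ preP Y X.unop.base U
  · have hiso : ∀ m, IsIso (((toTopFree Y U).app (lv m)).app X) := fun m => by
      have : IsIso ((yoneda.map ((toTop Y U).app (lv m))).app X) := by
        rw [isIso_iff_bijective]
        refine ⟨fun a b h => homP_ext ?_, fun b => ?_⟩
        · exact (Category.comp_id _).symm.trans
            ((congrArg (fun z : X.unop ⟶ (Descent.topObj Y).obj (lv m) => z.base) h).trans (Category.comp_id _))
        · exact ⟨homP (X := X.unop) (Z := (objU Y U).obj (lv m)) b.base (hX.trans (pre_map Y b.base U)),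
            homP_ext (Category.comp_id _)⟩
      exact inferInstanceAs (IsIso (AddCommGrpCat.free.{u}.map ((yoneda.map ((toTop Y U).app (lv m))).app X)))
    let φ : ShortComplex.mk (Hyper.dP (levU Y U) (n + 1)) (Hyper.dP (levU Y U) n)
        (AlternatingFaceMapComplex.d_squared (Hyper.freeP (levU Y U)) n) ⟶
        ShortComplex.mk (Hyper.dP (lev Y) (n + 1)) (Hyper.dP (lev Y) n)
          (AlternatingFaceMapComplex.d_squared (Hyper.freeP (lev Y)) n) :=
      { τ₁ := (toTopFree Y U).app (lv (n + 1 + 1))
        τ₂ := (toTopFree Y U).app (lv (n + 1))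
        τ₃ := (toTopFree Y U).app (lv n)
        comm₁₂ := by
          simp only [Hyper.dP, Preadditive.sum_comp, Preadditive.comp_sum, Preadditive.zsmul_comp, Preadditive.comp_zsmul]
          exact Finset.sum_congr rfl fun i _ => congrArg _ ((toTopFree Y U).naturality (SimplexCategory.δ i).op).symm
        comm₂₃ := by
          simp only [Hyper.dP, Preadditive.sum_comp, Preadditive.comp_sum, Preadditive.zsmul_comp, Preadditive.comp_zsmul]
          exact Finset.sum_congr rfl fun i _ => congrArg _ ((toTopFree Y U).naturality (SimplexCategory.δ i).op).symm }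
    let ψ := ((evaluation _ AddCommGrpCat.{u}).obj X).mapShortComplex.map φ
    have : IsIso ψ.τ₁ := hiso (n + 1 + 1)
    have : IsIso ψ.τ₂ := hiso (n + 1)
    have : IsIso ψ.τ₃ := hiso n
    have : IsIso ψ := ShortComplex.isIso_of_isIso ψ
    exact (ShortComplex.exact_iff_of_iso (asIso ψ)).2 (hlev.map _)
  · refine ShortComplex.exact_of_isZero_X₂ _ ?_
    have : IsEmpty (((levU Y U).obj (lv (n + 1))).obj X) := ⟨fun b => hX fun z hz => by
      have h := homP_le b hz
      show Y.map (toBot _) z ∈ U
      rw [(subsingleton_toBot _).elim (toBot _) ((FibDesc.toAug SimplexCategory).map b.base ≫ toBot _), Functor.map_comp]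
      exact h⟩
    have : Subsingleton (FreeAbelianGroup (((levU Y U).obj (lv (n + 1))).obj X)) := inferInstance
    exact @AddCommGrpCat.isZero_of_subsingleton
      (AddCommGrpCat.of (FreeAbelianGroup (((levU Y U).obj (lv (n + 1))).obj X))) this

/-- Sections of an injective sheaf form an acyclic cosimplicial group. -/
theorem coExact_of_injective (M : Sheaf (JP Y) AddCommGrpCat.{u}) [Injective M] : CoExact Y U M := fun n t ht => by
  have : Injective M.obj := Injective.injective_of_adjoint (sheafificationAdjunction (JP Y) AddCommGrpCat.{u}) M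
  let g := (SiteCoh.fpEquiv ((objU Y U).obj (lv (n + 1))) M.obj).symm t
  have hg : Hyper.dP (levU Y U) (n + 1) ≫ g = 0 := by
    apply (SiteCoh.fpEquiv ((objU Y U).obj (lv (n + 1 + 1))) M.obj).injective
    rw [dd_apply, AddEquiv.apply_symm_apply, map_zero]
    exact ht
  let k := (exact_free Y U n).descToInjective g hg
  refine ⟨SiteCoh.fpEquiv ((objU Y U).obj (lv n)) M.obj k, ?_⟩
  rw [← dd_apply]
  exact (congrArg _ ((exact_free Y U n).comp_descToInjective g hg)).trans (AddEquiv.apply_symm_apply _ _)

end Groth.L10.Proper
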