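import Groth.Agent.L10.Proper.FamMap
import Groth.Agent.L10.Proper.CoSimp

/-! Restriction of sections near a fibre of an augmented simplicial space to the fibre. -/

universe u

open CategoryTheory CategoryTheory.Limits Opposite Simplicial TopologicalSpace AlgebraicTopology
open Pseudofunctor.CoGrothendieck
open Groth.L09.SpaceSite Groth.L09

set_option backward.defeqAttrib.useBackward true
set_option backward.isDefEq.respectTransparency false
set_option backward.isDefEq.respectTransparency.types false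
set_option autoImplicit false
namespace Groth.L10.Proper

open Groth.L10.Descent (Tot toBot pre inP)

variable {Y' Y : (WithInitial SimplexCategory)ᵒᵖ ⥤ TopCat.{u}} (j : Y' ⟶ Y)

/-- A family whose base is a point `s` and whose levels are the fibres over `s`. -/
structure IsFibre (s : base Y) : Prop where
  point : ∀ b : base Y', jB j b = s
  subsingleton : Subsingleton (base Y')
  nonempty : Nonempty (base Y')
  compact : ∀ i : SimplexCategoryᵒᵖ, CompactSpace (Y'.obj ((FibDesc.toAug SimplexCategory).obj i))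
  closed : ∀ i : SimplexCategoryᵒᵖ, IsClosedMap (Y.map (toBot ((FibDesc.toAug SimplexCategory).obj i)))
  surj : ∀ (i : SimplexCategoryᵒᵖ) (x : Y.obj ((FibDesc.toAug SimplexCategory).obj i)),
    Y.map (toBot _) x = s → ∃ k, jP j i k = x
  sep : ∀ (i : SimplexCategoryᵒᵖ) (k k' : Y'.obj ((FibDesc.toAug SimplexCategory).obj i)), k ≠ k' →
    ∃ U V : Set (Y.obj ((FibDesc.toAug SimplexCategory).obj i)),
      IsOpen U ∧ IsOpen V ∧ jP j i k ∈ U ∧ jP j i k' ∈ V ∧ Disjoint U V

theorem IsFibre.hfK {s : base Y} (hj : IsFibre j s) (i : SimplexCategoryᵒᵖ)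
    (k : Y'.obj ((FibDesc.toAug SimplexCategory).obj i)) : Y.map (toBot _) (jP j i k) = s :=
  (j_nat_apply j (toBot _) k).symm.trans (hj.point _)

theorem dd_mapNat {X X' : CosimplicialObject AddCommGrpCat.{u}} (φ : X ⟶ X') (n : ℕ) (x : X.obj ⦋n⦌) :
    φ.app ⦋n + 1⦌ (AlternatingCofaceMapComplex.objD X n x) = AlternatingCofaceMapComplex.objD X' n (φ.app ⦋n⦌ x) := by
  have h : AlternatingCofaceMapComplex.objD X n ≫ φ.app ⦋n + 1⦌ = φ.app ⦋n⦌ ≫ AlternatingCofaceMapComplex.objD X' n := by
    simp only [AlternatingCofaceMapComplex.objD, Preadditive.sum_comp, Preadditive.comp_sum,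
      Preadditive.zsmul_comp, Preadditive.comp_zsmul]
    exact Finset.sum_congr rfl fun i _ => congrArg _ (φ.naturality _)
  exact ConcreteCategory.congr_hom h x

section Res

variable (Y)

/-- Restriction of cosimplicial sections to a smaller open. -/
noncomputable def resU (M : Sheaf (JP Y) AddCommGrpCat.{u}) {U V : Opens (base Y)} (h : V ≤ U) :
    coX Y U M ⟶ coX Y V M where
  app a := M.obj.map (objULe Y h (op a)).op
  naturality a b g := by
    refine (M.obj.map_comp _ _).symm.trans (Eq.trans ?_ (M.obj.map_comp _ _))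
    exact congrArg M.obj.map (Quiver.Hom.unop_inj (homP_ext ((Category.comp_id g.op).trans (Category.id_comp g.op).symm).symm.symm))

theorem isDesc_iff (M : Sheaf (JP Y) AddCommGrpCat.{u}) (U : Opens (base Y))
    (t : M.obj.obj (op ((objU Y U).obj (lv 0)))) : IsDesc Y M U t ↔ dd Y U M 0 t = 0 := by
  let E : ((coX Y U M).obj ⦋0⦌ ⟶ (coX Y U M).obj ⦋0 + 1⦌) →+ M.obj.obj (op ((objU Y U).obj (lv 1))) :=
    AddMonoidHom.mk' (fun φ => φ t) (fun _ _ => rfl)
  have h : dd Y U M 0 t = E ((coX Y U M).δ (0 : Fin 2)) - E ((coX Y U M).δ (1 : Fin 2)) := by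
    show E (dd Y U M 0) = _
    simp only [dd, AlternatingCofaceMapComplex.objD, map_sum, map_zsmul]
    rw [Fin.sum_univ_two]
    simp [sub_eq_add_neg]
  exact ⟨fun e => h.trans (sub_eq_zero.2 e), fun e => sub_eq_zero.1 (h.symm.trans e)⟩

theorem proj_natural {M N : Sheaf (JP Y) AddCommGrpCat.{u}} (φ : M ⟶ N) (U : Opens (base Y))
    (z : ((SpaceCrit.push Y).obj M).obj.obj (op U)) :
    proj Y N U (((SpaceCrit.push Y).map φ).hom.app (op U) z) = φ.hom.app (op ((objU Y U).obj (lv 0))) (proj Y M U z) := by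
  let R := (FibDesc.incl (FibDesc.topAug Y)).op.ran (H := AddCommGrpCat.{u})
  have h : (R.map φ.hom).app (op ((FibDesc.eps (FibDesc.topAug Y)).obj U)) ≫ proj Y N U =
      proj Y M U ≫ φ.hom.app (op ((objU Y U).obj (lv 0))) := by
    show _ ≫ (R.obj N.obj).map (arr Y U (lv 0)).hom ≫ _ = ((R.obj M.obj).map (arr Y U (lv 0)).hom ≫ _) ≫ _
    rw [← Category.assoc]
    refine (congrArg (· ≫ _) ((R.map φ.hom).naturality (arr Y U (lv 0)).hom).symm).trans ?_
    refine (Category.assoc _ _ _).trans (Eq.trans ?_ (Category.assoc _ _ _).symm)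
    refine congrArg (_ ≫ ·) ?_
    exact NatTrans.congr_app ((FibDesc.incl (FibDesc.topAug Y)).op.ranCounit.naturality φ.hom)
      (op ((objU Y U).obj (lv 0)))
  exact ConcreteCategory.congr_hom h z

theorem proj_res (M : Sheaf (JP Y) AddCommGrpCat.{u}) {U V : Opens (base Y)} (h : V ≤ U)
    (z : ((SpaceCrit.push Y).obj M).obj.obj (op U)) :
    proj Y M V (((SpaceCrit.push Y).obj M).obj.map (le_hom h).op z) =
      M.obj.map (objULe Y h (lv 0)).op (proj Y M U z) := by
  let R := (FibDesc.incl (FibDesc.topAug Y)).op.ran.obj M.obj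
  let g : StructuredArrow (op ((FibDesc.eps (FibDesc.topAug Y)).obj U)) (FibDesc.incl (FibDesc.topAug Y)).op :=
    StructuredArrow.mk (Y := op ((objU Y V).obj (lv 0)))
      (((FibDesc.eps (FibDesc.topAug Y)).map (le_hom h)).op ≫ (arr Y V (lv 0)).hom)
  refine Eq.trans ?_ ((proj_map M U g 0 z).trans (map_congr Y M ?_ _))
  · show _ = ((FibDesc.incl (FibDesc.topAug Y)).op.ranCounit.app M.obj).app (op ((objU Y V).obj (lv 0)))
      (R.map (((FibDesc.eps (FibDesc.topAug Y)).map (le_hom h)).op ≫ (arr Y V (lv 0)).hom) z)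
    rw [R.map_comp]
    rfl
  · exact Quiver.Hom.unop_inj (SimplexCategory.Hom.ext _ _ (OrderHom.ext _ _ (funext fun x =>
      Subsingleton.elim (α := Fin 1) _ _)))

end Res

variable {s : base Y} (hj : IsFibre j s)

include hj in
theorem le_fibre {U : Opens (base Y)} (hs : s ∈ U) (i : SimplexCategoryᵒᵖ) :
    preP Y' i ⊤ ≤ (Opens.map (jP j i)).obj (preP Y i U) := fun k _ => by
  show Y.map (toBot _) (jP j i k) ∈ U
  exact (hj.hfK j i k).symm ▸ hs

/-- The arrow from the fibre. -/
noncomputable def toMP {U : Opens (base Y)} (hs : s ∈ U) (i : SimplexCategoryᵒᵖ) :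
    (objU Y' ⊤).obj i ⟶ (mP j).obj ((objU Y U).obj i) :=
  homP (𝟙 i) (fun k hk => by
    show Y'.map ((FibDesc.toAug SimplexCategory).map (𝟙 i)) k ∈ (Opens.map (jP j i)).obj (preP Y i U)
    rw [CategoryTheory.Functor.map_id, CategoryTheory.Functor.map_id]
    exact le_fibre j hj hs i hk)

/-- Restriction to the fibre. -/
noncomputable def TT (M : Sheaf (JP Y) AddCommGrpCat.{u}) {U : Opens (base Y)} (hs : s ∈ U) :
    coX Y U M ⟶ coX Y' ⊤ ((rP j).obj M) where
  app a := ((aP j).unit.app M).hom.app (op ((objU Y U).obj (op a))) ≫ ((rP j).obj M).obj.map (toMP j hj hs (op a)).op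
  naturality a b g := by
    refine (Category.assoc _ _ _).symm.trans ((congrArg (· ≫ _)
      (((aP j).unit.app M).hom.naturality ((objU Y U).map g.op).op)).trans ((Category.assoc _ _ _).trans ?_))
    refine Eq.trans ?_ (Category.assoc _ _ _).symm
    refine congrArg (_ ≫ ·) ?_
    refine ((((rP j).obj M).obj.map_comp _ _).symm).trans (Eq.trans ?_ (((rP j).obj M).obj.map_comp _ _))
    exact congrArg ((rP j).obj M).obj.map (Quiver.Hom.unop_inj (homP_ext
      ((Category.id_comp g.op).trans (Category.comp_id g.op).symm)))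

theorem TT_res (M : Sheaf (JP Y) AddCommGrpCat.{u}) {U V : Opens (base Y)} (h : V ≤ U) (hs : s ∈ V) (a : SimplexCategory)
    (t : (coX Y U M).obj a) :
    (TT j hj M hs).app a ((resU Y M h).app a t) = (TT j hj M (h hs)).app a t := by
  show ((rP j).obj M).obj.map (toMP j hj hs (op a)).op (((aP j).unit.app M).hom.app _ (M.obj.map (objULe Y h (op a)).op t)) = _
  refine (congrArg _ (NatTrans.naturality_apply ((aP j).unit.app M).hom (objULe Y h (op a)).op t)).trans ?_
  refine (map_map Y' ((rP j).obj M) (toMP j hj hs (op a)) ((mP j).map (objULe Y h (op a))) _).trans ?_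
  exact map_congr Y' ((rP j).obj M) (Category.id_comp (𝟙 (op a))) _

theorem rP_map_TT {M N : Sheaf (JP Y) AddCommGrpCat.{u}} (φ : M ⟶ N) {U : Opens (base Y)} (hs : s ∈ U) (a : SimplexCategory)
    (t : (coX Y U M).obj a) :
    ((rP j).map φ).hom.app (op ((objU Y' ⊤).obj (op a))) ((TT j hj M hs).app a t) =
      (TT j hj N hs).app a (φ.hom.app (op ((objU Y U).obj (op a))) t) := by
  refine (NatTrans.naturality_apply ((rP j).map φ).hom (toMP j hj hs (op a)).op _).trans ?_
  refine congrArg (((rP j).obj N).obj.map (toMP j hj hs (op a)).op) ?_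
  exact congr(($((aP j).unit.naturality φ)).hom.app (op ((objU Y U).obj (op a))) t).symm

theorem TT_germ (M : Sheaf (JP Y) AddCommGrpCat.{u}) {U : Opens (base Y)} (hs : s ∈ U) (i : SimplexCategoryᵒᵖ)
    (t : (coX Y U M).obj i.unop) (k : Y'.obj ((FibDesc.toAug SimplexCategory).obj i)) (hk : Y.map (toBot _) (jP j i k) ∈ U) :
    germ ((lev' Y' i).obj ((rP j).obj M)) k (Opens.mem_top k) ((TT j hj M hs).app i.unop t) =
      germ ((lev' Y' i).obj ((rP j).obj M)) k hk
        (pl (levUnit j M i) ((Opens.map (Y.map (toBot _))).obj U) t) := by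
  let G' := (lev' Y' i).obj ((rP j).obj M)
  refine Eq.trans (congrArg (germ G' k (Opens.mem_top k)) ?_)
    (germ_rs G' (le_fibre j hj hs i) k (Opens.mem_top k) (pl (levUnit j M i) ((Opens.map (Y.map (toBot _))).obj U) t))
  exact map_congr Y' ((rP j).obj M) (a := toMP j hj hs i) (b := (inP Y' i).map (homOfLE (le_fibre j hj hs i))) rfl
    (((aP j).unit.app M).hom.app (op ((objU Y U).obj i)) t)

/-- Sections vanishing on the fibre vanish near it. -/
theorem exists_vanish_TT (M : Sheaf (JP Y) AddCommGrpCat.{u}) {U : Opens (base Y)} (hs : s ∈ U) (a : SimplexCategory)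
    (t : (coX Y U M).obj a) (h0 : (TT j hj M hs).app a t = 0) :
    ∃ (V : Opens (base Y)) (hV : V ≤ U), s ∈ V ∧ (resU Y M hV).app a t = 0 := by
  obtain ⟨V, hV, hsV, e⟩ := exists_vanish (Y.map (toBot ((FibDesc.toAug SimplexCategory).obj (op a)))) s (jP j (op a))
    (hj.hfK j (op a)) (hj.closed (op a)) (hj.surj (op a)) (isPullUnit_levUnit j M (op a)) hs t fun k => by
    refine (TT_germ j hj M hs (op a) t k _).symm.trans ?_
    exact (congrArg _ h0).trans (map_zero _)
  refine ⟨V, hV, hsV, Eq.trans ?_ e⟩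
  exact map_congr Y M (a := objULe Y hV (op a))
    (b := (inP Y (op a)).map (homOfLE ((Opens.map (Y.map (toBot _))).monotone hV))) rfl t

/-- Sections on the fibre extend near it. -/
theorem exists_extend_TT (M : Sheaf (JP Y) AddCommGrpCat.{u}) (a : SimplexCategory)
    (w : (coX Y' ⊤ ((rP j).obj M)).obj a) :
    ∃ (U : Opens (base Y)) (hs : s ∈ U) (t : (coX Y U M).obj a), (TT j hj M hs).app a t = w := by
  have := hj.compact (op a)
  obtain ⟨U, t, hs, h⟩ := exists_extend (Y.map (toBot ((FibDesc.toAug SimplexCategory).obj (op a)))) s (jP j (op a))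
    (hj.hfK j (op a)) (hj.closed (op a)) (hj.surj (op a)) (isPullUnit_levUnit j M (op a)) (hj.sep (op a)) w
  refine ⟨U, hs, t, sect_ext ((lev' Y' (op a)).obj ((rP j).obj M)) _ _ fun k _ => ?_⟩
  obtain ⟨hk, e⟩ := h k
  exact (TT_germ j hj M hs (op a) t k hk).trans e

/-- Cocycles on the fibre extend to cocycles near it. -/
theorem exists_extend_cocycle (M : Sheaf (JP Y) AddCommGrpCat.{u}) (n : ℕ)
    (w : (coX Y' ⊤ ((rP j).obj M)).obj ⦋n⦌) (hw : dd Y' ⊤ ((rP j).obj M) n w = 0) :
    ∃ (U : Opens (base Y)) (hs : s ∈ U) (t : (coX Y U M).obj ⦋n⦌), dd Y U M n t = 0 ∧ (TT j hj M hs).app _ t = w := by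
  obtain ⟨U, hs, t, rfl⟩ := exists_extend_TT j hj M ⦋n⦌ w
  obtain ⟨V, hV, hsV, e⟩ := exists_vanish_TT j hj M hs ⦋n + 1⦌ (dd Y U M n t)
    ((dd_mapNat (TT j hj M hs) n t).trans hw)
  exact ⟨V, hsV, (resU Y M hV).app _ t, (dd_mapNat (resU Y M hV) n t).symm.trans e, TT_res j hj M hV hsV _ t⟩

include hj in
/-- Inverse image to the fibre preserves exactness of sections. -/
theorem coExact_rP (M : Sheaf (JP Y) AddCommGrpCat.{u}) (hM : ∀ U, CoExact Y U M) : CoExact Y' ⊤ ((rP j).obj M) :=
  fun n w hw => by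
    obtain ⟨U, hs, t, ht, rfl⟩ := exists_extend_cocycle j hj M (n + 1) w hw
    obtain ⟨y, rfl⟩ := hM U n t ht
    exact ⟨(TT j hj M hs).app _ y, (dd_mapNat (TT j hj M hs) n y).symm⟩

end Groth.L10.Proper
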