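import Groth.Agent.L10.Proper.Stalk
import Mathlib.Topology.Sheaves.Stalks
import Mathlib.Topology.Sheaves.SheafCondition.UniqueGluing
import Mathlib.Topology.Separation.Regular

/-! Sections near a relatively Hausdorff compact subspace. -/

universe u

open CategoryTheory CategoryTheory.Limits Opposite TopologicalSpace Topology

set_option backward.defeqAttrib.useBackward true
set_option backward.isDefEq.respectTransparency false
set_option autoImplicit false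
namespace Groth.L10.Proper

variable {X : TopCat.{u}}

/-- Sections over an open. -/
abbrev Sect (F : CohTop.Ab X) (U : Opens X) : Type u := F.obj.obj (op U)

/-- The germ of a section. -/
noncomputable abbrev germ (F : CohTop.Ab X) {U : Opens X} (x : X) (hx : x ∈ U) (s : Sect F U) : CohTop.stalk F x :=
  TopCat.Presheaf.germ (C := AddCommGrpCat.{u}) (X := X) F.obj U x hx s

/-- Restriction of a section. -/
noncomputable abbrev rs (F : CohTop.Ab X) {U V : Opens X} (h : V ≤ U) (s : Sect F U) : Sect F V :=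
  F.obj.map (homOfLE h).op s

theorem germ_rs (F : CohTop.Ab X) {U V : Opens X} (h : V ≤ U) (x : X) (hx : x ∈ V) (s : Sect F U) :
    germ F x hx (rs F h s) = germ F x (h hx) s :=
  TopCat.Presheaf.germ_res_apply (C := AddCommGrpCat.{u}) (X := X) F.obj (homOfLE h) x hx s

@[simp] theorem germ_zero (F : CohTop.Ab X) {U : Opens X} (x : X) (hx : x ∈ U) :
    germ F x hx (0 : Sect F U) = 0 :=
  map_zero _

theorem germ_sub (F : CohTop.Ab X) {U : Opens X} (x : X) (hx : x ∈ U) (s t : Sect F U) :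
    germ F x hx (s - t) = germ F x hx s - germ F x hx t :=
  map_sub _ _ _

theorem sect_ext (F : CohTop.Ab X) {U : Opens X} (s t : Sect F U)
    (h : ∀ (x : X) (hx : x ∈ U), germ F x hx s = germ F x hx t) : s = t :=
  TopCat.Presheaf.section_ext (C := AddCommGrpCat.{u}) (X := X) F U s t h

theorem exists_germ (F : CohTop.Ab X) (x : X) (z : CohTop.stalk F x) :
    ∃ (U : Opens X) (hx : x ∈ U) (s : Sect F U), germ F x hx s = z :=
  TopCat.Presheaf.germ_exist (C := AddCommGrpCat.{u}) (X := X) F.obj z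

theorem exists_germ_eq (F : CohTop.Ab X) {U V : Opens X} (x : X) (hU : x ∈ U) (hV : x ∈ V) (s : Sect F U)
    (t : Sect F V) (h : germ F x hU s = germ F x hV t) :
    ∃ (W : Opens X), x ∈ W ∧ ∃ (h₁ : W ≤ U) (h₂ : W ≤ V), ∀ (y : X) (hy : y ∈ W), germ F y (h₁ hy) s = germ F y (h₂ hy) t := by
  obtain ⟨W, hW, i₁, i₂, e⟩ := TopCat.Presheaf.germ_eq (C := AddCommGrpCat.{u}) (X := X) F.obj x hU hV s t h
  exact ⟨W, hW, i₁.le, i₂.le, fun y hy => by
    rw [← germ_rs F i₁.le y hy, ← germ_rs F i₂.le y hy]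
    exact congrArg (germ F y hy) e⟩

/-- Two sections with the same germs on the intersection glue. -/
theorem exists_glue (F : CohTop.Ab X) {U₁ U₂ : Opens X} (s₁ : Sect F U₁) (s₂ : Sect F U₂)
    (h : ∀ (x : X) (h₁ : x ∈ U₁) (h₂ : x ∈ U₂), germ F x h₁ s₁ = germ F x h₂ s₂) :
    ∃ s : Sect F (U₁ ⊔ U₂), (∀ (x : X) (hx : x ∈ U₁), germ F x (Or.inl hx) s = germ F x hx s₁) ∧
      ∀ (x : X) (hx : x ∈ U₂), germ F x (Or.inr hx) s = germ F x hx s₂ := by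
  let U : ULift.{u} Bool → Opens X := fun b => if b.down then U₁ else U₂
  let sf : ∀ b, Sect F (U b) := fun b => match b with
    | ⟨true⟩ => s₁
    | ⟨false⟩ => s₂
  have hU : ∀ b, U b ≤ U₁ ⊔ U₂ := fun b => by
    rcases b with ⟨_ | _⟩
    · exact le_sup_right
    · exact le_sup_left
  obtain ⟨s, hs, -⟩ := TopCat.Sheaf.existsUnique_gluing' (C := AddCommGrpCat.{u}) (X := X) F U (U₁ ⊔ U₂)
    (fun b => homOfLE (hU b))
    (sup_le (le_iSup U ⟨true⟩) (le_iSup U ⟨false⟩)) sf (fun b b' => by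
      refine sect_ext F _ _ fun x hx => ?_
      refine (germ_rs F inf_le_left x hx _).trans (Eq.trans ?_ (germ_rs F inf_le_right x hx _).symm)
      rcases b with ⟨_ | _⟩ <;> rcases b' with ⟨_ | _⟩
      · rfl
      · exact (h x hx.2 hx.1).symm
      · exact h x hx.1 hx.2
      · rfl)
  refine ⟨s, fun x hx => ?_, fun x hx => ?_⟩
  · exact (germ_rs F (hU ⟨true⟩) x hx s).symm.trans (congrArg (germ F x hx) (hs ⟨true⟩))
  · exact (germ_rs F (hU ⟨false⟩) x hx s).symm.trans (congrArg (germ F x hx) (hs ⟨false⟩))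

/-- The open set where a section has zero germs. -/
theorem exists_zeroLocus (F : CohTop.Ab X) {U : Opens X} (s : Sect F U) :
    ∃ Z : Opens X, ∃ h : Z ≤ U, rs F h s = 0 ∧ ∀ (x : X) (hx : x ∈ U), germ F x hx s = 0 → x ∈ Z := by
  let Z : Set X := {x | ∃ hx : x ∈ U, germ F x hx s = 0}
  have hZ : IsOpen Z := isOpen_iff_forall_mem_open.2 fun x ⟨hx, h⟩ => by
    obtain ⟨W, hW, h₁, h₂, e⟩ := exists_germ_eq F x hx hx s 0 (h.trans (map_zero _).symm)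
    exact ⟨W, fun y hy => ⟨h₁ hy, (e y hy).trans (map_zero _)⟩, W.isOpen, hW⟩
  have hle : (⟨Z, hZ⟩ : Opens X) ≤ U := fun x hx => hx.1
  refine ⟨⟨Z, hZ⟩, hle, sect_ext F _ _ fun x hx => ?_, fun x hx h => ⟨hx, h⟩⟩
  rw [germ_rs, germ_zero]
  exact hx.2

theorem disjoint_nhdsSet_of_sep {C₁ C₂ : Set X} (h₁ : IsCompact C₁) (h₂ : IsCompact C₂)
    (h : ∀ x ∈ C₁, ∀ y ∈ C₂, ∃ U V : Set X, IsOpen U ∧ IsOpen V ∧ x ∈ U ∧ y ∈ V ∧ Disjoint U V) :
    ∃ P₁ P₂ : Opens X, C₁ ⊆ P₁ ∧ C₂ ⊆ P₂ ∧ Disjoint (P₁ : Set X) P₂ := by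
  have : Disjoint (𝓝ˢ C₁) (𝓝ˢ C₂) := by
    refine h₁.disjoint_nhdsSet_left.2 fun x hx => ?_
    refine h₂.disjoint_nhdsSet_right.2 fun y hy => ?_
    obtain ⟨U, V, hU, hV, hxU, hyV, hd⟩ := h x hx y hy
    exact Filter.disjoint_iff.2 ⟨U, hU.mem_nhds hxU, V, hV.mem_nhds hyV, hd⟩
  obtain ⟨P₁, P₂, o₁, o₂, c₁, c₂, hd⟩ := separatedNhds_iff_disjoint.2 this
  exact ⟨⟨P₁, o₁⟩, ⟨P₂, o₂⟩, c₁, c₂, hd⟩

/-- Sections near two compact subsets agreeing on the intersection glue near the union. -/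
theorem exists_glue_near (F : CohTop.Ab X) {C₁ C₂ : Set X} (hc₁ : IsCompact C₁) (hc₂ : IsCompact C₂)
    (hsep : ∀ x ∈ C₁, ∀ y ∈ C₂, x ≠ y → ∃ U V : Set X, IsOpen U ∧ IsOpen V ∧ x ∈ U ∧ y ∈ V ∧ Disjoint U V)
    {O₁ O₂ : Opens X} (t₁ : Sect F O₁) (t₂ : Sect F O₂) (hO₁ : C₁ ⊆ O₁) (hO₂ : C₂ ⊆ O₂)
    (h : ∀ (x : X) (h₁ : x ∈ C₁) (h₂ : x ∈ C₂), germ F x (hO₁ h₁) t₁ = germ F x (hO₂ h₂) t₂) :
    ∃ (O : Opens X) (t : Sect F O),
      (∀ (x : X) (hx : x ∈ C₁), ∃ hO : x ∈ O, germ F x hO t = germ F x (hO₁ hx) t₁) ∧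
      ∀ (x : X) (hx : x ∈ C₂), ∃ hO : x ∈ O, germ F x hO t = germ F x (hO₂ hx) t₂ := by
  obtain ⟨N, hN, hN0, hNmem⟩ := exists_zeroLocus F
    (rs F (inf_le_left : O₁ ⊓ O₂ ≤ O₁) t₁ - rs F (inf_le_right : O₁ ⊓ O₂ ≤ O₂) t₂)
  have hmem : ∀ x ∈ C₁, x ∈ C₂ → x ∈ N := fun x h₁ h₂ => by
    refine hNmem _ ⟨hO₁ h₁, hO₂ h₂⟩ ?_
    rw [germ_sub, sub_eq_zero]
    exact (germ_rs F inf_le_left _ _ t₁).trans ((h x h₁ h₂).trans (germ_rs F inf_le_right _ ⟨hO₁ h₁, hO₂ h₂⟩ t₂).symm)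
  obtain ⟨P₁, P₂, hP₁, hP₂, hd⟩ := disjoint_nhdsSet_of_sep
    (hc₁.inter_right N.isOpen.isClosed_compl) (hc₂.inter_right N.isOpen.isClosed_compl) (by
      rintro x ⟨x₁, xn⟩ y ⟨y₂, -⟩
      refine hsep x x₁ y y₂ ?_
      rintro rfl
      exact xn (hmem x x₁ y₂))
  let O₁' := O₁ ⊓ (N ⊔ P₁)
  let O₂' := O₂ ⊓ (N ⊔ P₂)
  obtain ⟨t, ht₁, ht₂⟩ := exists_glue F (rs F (inf_le_left : O₁' ≤ O₁) t₁) (rs F (inf_le_left : O₂' ≤ O₂) t₂)
    (fun x hx₁ hx₂ => by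
      have hxN : x ∈ N := by
        rcases hx₁.2 with h | h
        · exact h
        · rcases hx₂.2 with h' | h'
          · exact h'
          · exact (Set.disjoint_left.1 hd h h').elim
      rw [germ_rs, germ_rs]
      have := congrArg (germ F x hxN) hN0
      rw [germ_rs, germ_zero, germ_sub, sub_eq_zero] at this
      rwa [germ_rs, germ_rs] at this)
  refine ⟨O₁' ⊔ O₂', t, fun x hx => ?_, fun x hx => ?_⟩
  · have hm : x ∈ O₁' := ⟨hO₁ hx, (em (x ∈ N)).imp id fun hn => hP₁ ⟨hx, hn⟩⟩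
    exact ⟨Or.inl hm, (ht₁ _ hm).trans (germ_rs F _ _ hm t₁)⟩
  · have hm : x ∈ O₂' := ⟨hO₂ hx, (em (x ∈ N)).imp id fun hn => hP₂ ⟨hx, hn⟩⟩
    exact ⟨Or.inr hm, (ht₂ _ hm).trans (germ_rs F _ _ hm t₂)⟩

variable {K : TopCat.{u}} {j : K ⟶ X} {G : CohTop.Ab X} {G' : CohTop.Ab K} (u : G ⟶ (CohTop.push j).obj G')

/-- Restriction of sections along `u`. -/
noncomputable abbrev pl (O : Opens X) (t : Sect G O) : Sect G' ((Opens.map j).obj O) := u.hom.app (op O) t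

theorem germ_pl {O : Opens X} (t : Sect G O) (k : K) (hk : j k ∈ O) :
    stalkComp j u k (germ G (j k) hk t) = germ G' k hk (pl u O t) :=
  stalkComp_germ j u k O hk t

variable {u} (hu : IsPullUnit j u)

include hu in
theorem germ_eq_of_pl {O O' : Opens X} (t : Sect G O) (t' : Sect G O') (k : K) (hk : j k ∈ O) (hk' : j k ∈ O')
    (h : germ G' k hk (pl u O t) = germ G' k hk' (pl u O' t')) : germ G (j k) hk t = germ G (j k) hk' t' :=
  (hu k).1 (by rw [germ_pl, germ_pl, h])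

include hu in
/-- A section vanishing on the subspace vanishes near it. -/
theorem exists_nhbd_eq_zero {O : Opens X} (t : Sect G O) :
    ∃ O' : Opens X, ∃ h : O' ≤ O, rs G h t = 0 ∧
      ∀ (k : K) (hk : j k ∈ O), germ G' k hk (pl u O t) = 0 → j k ∈ O' := by
  obtain ⟨Z, hZ, h0, hmem⟩ := exists_zeroLocus G t
  refine ⟨Z, hZ, h0, fun k hk h => hmem _ hk ?_⟩
  apply (hu k).1
  rw [germ_pl, h]
  exact (map_zero _).symm

/-- A section near a closed subset. -/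
def LiftsOn (u : G ⟶ (CohTop.push j).obj G') {V : Opens K} (w : Sect G' V) (A : Set K) : Prop :=
  ∃ (O : Opens X) (t : Sect G O), ∀ a ∈ A, ∃ (ha : j a ∈ O) (hV : a ∈ V), germ G' a ha (pl u O t) = germ G' a hV w

variable (hsep : ∀ k k' : K, k ≠ k' → ∃ U V : Set X, IsOpen U ∧ IsOpen V ∧ j k ∈ U ∧ j k' ∈ V ∧ Disjoint U V)

include hu hsep in
theorem LiftsOn.union [CompactSpace K] {V : Opens K} {w : Sect G' V} {B₁ B₂ : Set K} (hB₁ : IsClosed B₁)
    (hB₂ : IsClosed B₂) (h₁ : LiftsOn u w B₁) (h₂ : LiftsOn u w B₂) : LiftsOn u w (B₁ ∪ B₂) := by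
  obtain ⟨O₁, t₁, h₁⟩ := h₁
  obtain ⟨O₂, t₂, h₂⟩ := h₂
  obtain ⟨O, t, e₁, e₂⟩ := exists_glue_near G (hB₁.isCompact.image j.hom.continuous)
    (hB₂.isCompact.image j.hom.continuous)
    (by
      rintro _ ⟨a, -, rfl⟩ _ ⟨b, -, rfl⟩ hne
      exact hsep a b fun e => hne (congrArg j e))
    t₁ t₂ (by rintro _ ⟨a, ha, rfl⟩; exact (h₁ a ha).1) (by rintro _ ⟨a, ha, rfl⟩; exact (h₂ a ha).1) (by
      rintro _ ⟨a, a₁, rfl⟩ ⟨b, b₂, e⟩
      obtain rfl : b = a := by_contra fun hne => by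
        obtain ⟨U, V', -, -, hU, hV', hd⟩ := hsep b a hne
        exact Set.disjoint_left.1 hd (e ▸ hU) hV'
      obtain ⟨ha₁, hV, e₁⟩ := h₁ b a₁
      obtain ⟨ha₂, _, e₂⟩ := h₂ b b₂
      exact germ_eq_of_pl hu t₁ t₂ b ha₁ ha₂ (e₁.trans e₂.symm))
  refine ⟨O, t, ?_⟩
  rintro a (ha | ha)
  · obtain ⟨_, hV, e⟩ := h₁ a ha
    obtain ⟨hO, e'⟩ := e₁ (j a) ⟨a, ha, rfl⟩
    exact ⟨hO, hV, (germ_pl u t a hO).symm.trans ((congrArg _ e').trans ((germ_pl u t₁ a _).trans e))⟩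
  · obtain ⟨_, hV, e⟩ := h₂ a ha
    obtain ⟨hO, e'⟩ := e₂ (j a) ⟨a, ha, rfl⟩
    exact ⟨hO, hV, (germ_pl u t a hO).symm.trans ((congrArg _ e').trans ((germ_pl u t₂ a _).trans e))⟩

include hu hsep in
/-- Sections on a closed subset of the subspace come from neighbourhoods. -/
theorem exists_lift [CompactSpace K] {V : Opens K} (w : Sect G' V) {A : Set K} (hA : IsClosed A) (hAV : A ⊆ V) :
    LiftsOn u w A := by
  have : T2Space K := ⟨fun k k' h => by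
    obtain ⟨U, U', hU, hU', h₁, h₂, hd⟩ := hsep k k' h
    exact ⟨j ⁻¹' U, j ⁻¹' U', hU.preimage j.hom.continuous, hU'.preimage j.hom.continuous, h₁, h₂, hd.preimage j⟩⟩
  have empty : LiftsOn u w (∅ : Set K) := ⟨⊥, 0, fun a ha => ha.elim⟩
  have := hA.isCompact.induction_on (p := fun s : Set K => LiftsOn u w (A ∩ closure s)) ?_ ?_ ?_ ?_
  · obtain ⟨O, t, h⟩ := this
    exact ⟨O, t, fun a ha => h a ⟨ha, subset_closure ha⟩⟩
  · simpa using empty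
  · rintro s t hst ⟨O, x, h⟩
    exact ⟨O, x, fun a ha => h a ⟨ha.1, closure_mono hst ha.2⟩⟩
  · intro s t hs ht
    simp only [closure_union, Set.inter_union_distrib_left]
    exact hs.union hu hsep (hA.inter isClosed_closure) (hA.inter isClosed_closure) ht
  · intro a ha
    obtain ⟨z, hz⟩ := (hu a).2 (germ G' a (hAV ha) w)
    obtain ⟨O, hO, t, rfl⟩ := exists_germ G (j a) z
    rw [germ_pl] at hz
    obtain ⟨W, haW, h₁, h₂, e⟩ := exists_germ_eq G' a hO (hAV ha) _ _ hz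
    obtain ⟨C, hC, hCc, hCW⟩ := exists_mem_nhds_isClosed_subset (W.isOpen.mem_nhds haW)
    refine ⟨C, nhdsWithin_le_nhds hC, O, t, fun b hb => ?_⟩
    have hbW : b ∈ W := hCW (hCc.closure_subset hb.2)
    exact ⟨h₁ hbW, h₂ hbW, e b hbW⟩

end Groth.L10.Proper
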