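import Groth.Agent.L10.Proper.PointCrit
import Groth.Agent.L09.CechOpen

/-! Proper surjective maps are of cohomological descent. -/

universe u

open CategoryTheory CategoryTheory.Limits Opposite Simplicial TopologicalSpace Topology
open Groth.L09.SpaceSite Groth.L09

set_option backward.defeqAttrib.useBackward true
set_option backward.isDefEq.respectTransparency false
set_option backward.isDefEq.respectTransparency.types false
set_option autoImplicit false
namespace Groth.L10.Proper

open Groth.L10.Descent (toBot)

variable {X S : TopCat.{u}} {f : X ⟶ S}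

/-- Finite fibre powers of a proper map are proper. -/
theorem isProperMap_widePullback_base (hf : IsProperMap f) (m : ℕ) :
    IsProperMap (WidePullback.base (fun _ : Fin m => f) : widePullback S (fun _ : Fin m => X) (fun _ => f) ⟶ S) := by
  let P : TopCat.{u} := TopCat.of (Fin m → X)
  let Q : TopCat.{u} := TopCat.of (Fin m → S)
  let F : P ⟶ Q := TopCat.ofHom ⟨fun x i => f (x i), continuous_pi fun i => f.hom.continuous.comp (continuous_apply i)⟩
  let Δ : S ⟶ Q := TopCat.ofHom ⟨fun s _ => s, continuous_pi fun _ => continuous_id⟩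
  let π : widePullback S (fun _ : Fin m => X) (fun _ => f) ⟶ P :=
    TopCat.ofHom ⟨fun z i => WidePullback.π (fun _ : Fin m => f) i z,
      continuous_pi fun i => (WidePullback.π (fun _ : Fin m => f) i).hom.continuous⟩
  let ev : ∀ _ : Fin m, P ⟶ X := fun i => TopCat.ofHom ⟨fun x => x i, continuous_apply i⟩
  have w : π ≫ F = WidePullback.base (fun _ : Fin m => f) ≫ Δ := by
    refine TopCat.hom_ext (ContinuousMap.ext fun z => funext fun i => ?_)
    exact ConcreteCategory.congr_hom (WidePullback.π_arrow (fun _ : Fin m => f) i) z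
  have sq : IsPullback π (WidePullback.base (fun _ : Fin m => f)) F Δ := by
    refine IsPullback.of_isLimit' ⟨w⟩ (PullbackCone.IsLimit.mk w
      (fun s => WidePullback.lift s.snd (fun i => s.fst ≫ ev i) (fun i =>
        TopCat.hom_ext (ContinuousMap.ext fun z => congrFun (ConcreteCategory.congr_hom s.condition z) i)))
      (fun s => TopCat.hom_ext (ContinuousMap.ext fun z => funext fun i =>
        ConcreteCategory.congr_hom (WidePullback.lift_π (arrows := fun _ : Fin m => f) s.snd (fun i => s.fst ≫ ev i) _ i) z))
      (fun s => WidePullback.lift_base _ _ _ _) (fun s k h₁ h₂ => WidePullback.hom_ext _ _ _ (fun i => ?_) ?_))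
    · rw [WidePullback.lift_π, ← h₁]
      rfl
    · rw [WidePullback.lift_base, h₂]
  exact isProperMap_snd sq (IsProperMap.pi_map fun _ => hf)

variable (hf : IsProperMap f)
  (hs : ∀ x x' : X, f x = f x' → x ≠ x' → ∃ U V : Set X, IsOpen U ∧ IsOpen V ∧ x ∈ U ∧ x' ∈ V ∧ Disjoint U V)

include hf hs in
/-- The Cech nerve over a point is the fibre of the Cech nerve. -/
theorem isFibre_jn (s : S) : IsFibre (CechOpen.jn f (ptMap s)) (s : base (FibDesc.cechAug f)) where
  point _ := rfl
  subsingleton := inferInstanceAs (Subsingleton PUnit.{u + 1})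
  nonempty := ⟨PUnit.unit⟩
  closed i := (isProperMap_widePullback_base hf (i.unop.len + 1)).isClosedMap
  compact i :=
    ⟨(isProperMap_snd (CechOpen.isPullback f (ptMap s) i.unop)
      (isProperMap_widePullback_base hf (i.unop.len + 1))).isCompact_preimage (isCompact_univ (X := PUnit.{u + 1}))⟩
  surj i x hx := by
    obtain ⟨k, hk, _⟩ := IsPullback.exists_point (CechOpen.isPullback f (ptMap s) i.unop) (x := x) (y := PUnit.unit) hx
    exact ⟨k, hk⟩
  sep i k k' h := by
    let W := fun _ : Fin (i.unop.len + 1) => (Arrow.mk f).hom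
    let p := (Arrow.mapCechNerve (CechOpen.sq f (ptMap s))).app (op i.unop)
    have sq := CechOpen.isPullback f (ptMap s) i.unop
    have hb : WidePullback.base W (p k) = WidePullback.base W (p k') :=
      (ConcreteCategory.congr_hom sq.w k).trans (ConcreteCategory.congr_hom sq.w k').symm
    obtain ⟨a, ha⟩ : ∃ a, WidePullback.π W a (p k) ≠ WidePullback.π W a (p k') := by
      by_contra hne
      push Not at hne
      refine h (IsPullback.point_ext sq ?_ rfl)
      exact ConcreteCategory.congr_hom (show ptMap (p k) = ptMap (p k') from WidePullback.hom_ext _ _ _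
        (fun a => TopCat.hom_ext (ContinuousMap.ext fun _ => hne a))
        (TopCat.hom_ext (ContinuousMap.ext fun _ => hb))) PUnit.unit
    obtain ⟨U, V, hU, hV, h₁, h₂, hd⟩ := hs _ _ ((ConcreteCategory.congr_hom (WidePullback.π_arrow W a) (p k)).trans
      (hb.trans (ConcreteCategory.congr_hom (WidePullback.π_arrow W a) (p k')).symm)) ha
    exact ⟨WidePullback.π W a ⁻¹' U, WidePullback.π W a ⁻¹' V, hU.preimage (WidePullback.π W a).hom.continuous,
      hV.preimage (WidePullback.π W a).hom.continuous, h₁, h₂, hd.preimage _⟩

include hf hs in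
/-- Proper surjective maps are of cohomological descent. -/
theorem isCohDescentMap_of_proper (hsurj : Function.Surjective f) : FibDesc.IsCohDescentMap f := by
  refine SpaceCrit.isCohDescentTop_of_computes _ (computes_of_fibres fun (s : S) =>
    ⟨FibDesc.cechAug (pullback.snd f (ptMap s)), CechOpen.jn f (ptMap s), isFibre_jn hf hs s, ?_⟩)
  obtain ⟨x, hx⟩ := hsurj s
  let σ : TopCat.of PUnit.{u + 1} ⟶ pullback f (ptMap s) :=
    pullback.lift (ptMap x) (𝟙 _) (TopCat.hom_ext (ContinuousMap.ext fun _ => hx))
  exact SpaceCrit.computes_of_isCohDescentTop _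
    (CechSection.contraction (pullback.snd f (ptMap s)) σ (pullback.lift_snd _ _ _)).isCohDescentTop

end Groth.L10.Proper
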