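import Groth.Agent.L10.Proper.DisjointH
import Groth.Agent.L10.Proper.Surj
import Groth.Agent.L10.Descent.CechSS
import Mathlib.Topology.Category.TopCat.Limits.Basic
import Mathlib.Topology.LocallyFinite

/-! The disjoint union of a locally finite closed covering. -/

universe u

open CategoryTheory CategoryTheory.Limits Opposite TopologicalSpace Topology

set_option backward.defeqAttrib.useBackward true
set_option backward.isDefEq.respectTransparency false
set_option autoImplicit false
namespace Groth.L10.Proper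

variable {X : TopCat.{u}} {I : Type u} (U : I → Set X)

/-- The disjoint union. -/
abbrev DU : TopCat.{u} := TopCat.of (Σ i, U i)

/-- The map to the covered space. -/
abbrev duMap : DU U ⟶ X := TopCat.ofHom ⟨fun x => x.2.1, continuous_sigma fun _ => continuous_subtype_val⟩

variable {U}

theorem isProperMap_duMap (hU : ∀ i, IsClosed (U i)) (hlf : LocallyFinite U) : IsProperMap (duMap U) := by
  refine isProperMap_iff_isClosedMap_and_compact_fibers.2 ⟨(duMap U).hom.continuous, fun C hC => ?_, fun x => ?_⟩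
  · have h : (duMap U) '' C = ⋃ i, Subtype.val '' ((fun a => (⟨i, a⟩ : Σ i, U i)) ⁻¹' C) := by
      ext y
      constructor
      · rintro ⟨⟨i, a⟩, ha, rfl⟩
        exact Set.mem_iUnion.2 ⟨i, a, ha, rfl⟩
      · intro hy
        obtain ⟨i, a, ha, rfl⟩ := Set.mem_iUnion.1 hy
        exact ⟨(⟨i, a⟩ : Σ i, U i), ha, rfl⟩
    rw [h]
    exact (hlf.subset fun i => by rintro _ ⟨a, _, rfl⟩; exact a.2).isClosed_iUnion fun i =>
      (hU i).isClosedEmbedding_subtypeVal.isClosedMap _ (hC.preimage continuous_sigmaMk)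
  · refine Set.Finite.isCompact (Set.Finite.of_injOn (f := fun p : DU U => p.1) (t := {i | x ∈ U i}) ?_ ?_ (hlf.point_finite x))
    · intro p hp
      exact (show p.2.1 = x from hp) ▸ p.2.2
    · rintro ⟨i, a⟩ ha ⟨k, b⟩ hb (rfl : i = k)
      exact congrArg (Sigma.mk i) (Subtype.ext ((show a.1 = x from ha).trans (show b.1 = x from hb).symm))

theorem sep_duMap (p p' : DU U) (h : duMap U p = duMap U p') (hne : p ≠ p') :
    ∃ A B : Set (DU U), IsOpen A ∧ IsOpen B ∧ p ∈ A ∧ p' ∈ B ∧ Disjoint A B := by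
  obtain ⟨i, a⟩ := p
  obtain ⟨k, b⟩ := p'
  have hik : i ≠ k := by
    rintro rfl
    exact hne (congrArg (Sigma.mk i) (Subtype.ext h))
  exact ⟨Set.range (Sigma.mk i), Set.range (Sigma.mk k), isOpen_range_sigmaMk, isOpen_range_sigmaMk, ⟨a, rfl⟩, ⟨b, rfl⟩,
    Set.disjoint_left.2 fun x ⟨a', e⟩ ⟨b', e'⟩ => hik (congrArg Sigma.fst (e.trans e'.symm))⟩

theorem surjective_duMap (hcov : ⋃ i, U i = Set.univ) : Function.Surjective (duMap U) := fun x => by
  obtain ⟨i, hi⟩ := Set.mem_iUnion.1 (hcov.symm ▸ Set.mem_univ x)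
  exact ⟨⟨i, x, hi⟩, rfl⟩

/-- Inverse images compose. -/
noncomputable def pullComp {A B C : TopCat.{u}} (i : A ⟶ B) (g : B ⟶ C) :
    CohTop.pull g ⋙ CohTop.pull i ≅ CohTop.pull (i ≫ g) :=
  Adjunction.leftAdjointUniq
    ((TopCat.Sheaf.pullbackPushforwardAdjunction AddCommGrpCat.{u} g).comp
      (TopCat.Sheaf.pullbackPushforwardAdjunction AddCommGrpCat.{u} i))
    (TopCat.Sheaf.pullbackPushforwardAdjunction AddCommGrpCat.{u} (i ≫ g))

variable (U) (m : ℕ)

/-- The fibre power. -/
noncomputable abbrev WP : TopCat.{u} := widePullback X (fun _ : Fin m => DU U) (fun _ => duMap U)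

/-- One piece. -/
noncomputable def piece (σ : Fin m → I) : TopCat.of (⋂ k, U (σ k) : Set X) ⟶ WP U m :=
  WidePullback.lift (TopCat.ofHom ⟨Subtype.val, continuous_subtype_val⟩)
    (fun k => TopCat.ofHom ⟨fun x => ⟨σ k, x.1, Set.mem_iInter.1 x.2 k⟩,
      continuous_sigmaMk.comp (continuous_subtype_val.subtype_mk _)⟩)
    (fun _ => rfl)

theorem piece_base (σ : Fin m → I) : piece U m σ ≫ WidePullback.base _ =
    TopCat.ofHom ⟨Subtype.val, continuous_subtype_val⟩ :=
  WidePullback.lift_base _ _ _ _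

theorem piece_π (σ : Fin m → I) (k : Fin m) (x : TopCat.of (⋂ k, U (σ k) : Set X)) :
    WidePullback.π (fun _ => duMap U) k (piece U m σ x) = (⟨σ k, x.1, Set.mem_iInter.1 x.2 k⟩ : DU U) :=
  ConcreteCategory.congr_hom (WidePullback.lift_π (arrows := fun _ : Fin m => duMap U) _ _ _ k) x

theorem range_piece (σ : Fin m → I) :
    Set.range (piece U m σ) = ⋂ k, WidePullback.π (fun _ : Fin m => duMap U) k ⁻¹' Set.range (Sigma.mk (σ k)) := by
  ext w
  simp only [Set.mem_range, Set.mem_iInter, Set.mem_preimage]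
  constructor
  · rintro ⟨x, rfl⟩ k
    exact ⟨_, (piece_π U m σ k x).symm⟩
  · intro h
    choose a ha using h
    let z : X := WidePullback.base (fun _ : Fin m => duMap U) w
    have hb : ∀ k, (a k).1 = z := fun k => by
      have := ConcreteCategory.congr_hom (WidePullback.π_arrow (fun _ : Fin m => duMap U) k) w
      rw [ConcreteCategory.comp_apply, ← ha k] at this
      exact this
    let x : TopCat.of (⋂ k, U (σ k) : Set X) := ⟨z, Set.mem_iInter.2 fun k => hb k ▸ (a k).2⟩
    refine ⟨x, ?_⟩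
    have : ptMap (piece U m σ x) = ptMap w := WidePullback.hom_ext _ _ _
      (fun k => TopCat.hom_ext (ContinuousMap.ext fun _ => (piece_π U m σ k x).trans
        ((congrArg (Sigma.mk (σ k)) (Subtype.ext (hb k).symm)).trans (ha k))))
      (TopCat.hom_ext (ContinuousMap.ext fun _ => ConcreteCategory.congr_hom (piece_base U m σ) x))
    exact ConcreteCategory.congr_hom this PUnit.unit

theorem isOpenEmbedding_piece (σ : Fin m → I) : IsOpenEmbedding (piece U m σ) := by
  refine ⟨IsEmbedding.of_comp (piece U m σ).hom.continuous (WidePullback.base (fun _ : Fin m => duMap U)).hom.continuous ?_, ?_⟩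
  · have e : (WidePullback.base (fun _ : Fin m => duMap U)) ∘ (piece U m σ) = Subtype.val :=
      funext fun x => ConcreteCategory.congr_hom (piece_base U m σ) x
    exact e ▸ IsEmbedding.subtypeVal
  · rw [range_piece]
    exact isOpen_iInter_of_finite fun k => isOpen_range_sigmaMk.preimage (WidePullback.π (fun _ : Fin m => duMap U) k).hom.continuous

/-- Cohomology of the fibre powers. -/
theorem nonempty_H_WP (F : CohTop.Ab X) (q : ℕ) :
    Nonempty (CohTop.H ((CohTop.pull (WidePullback.base (fun _ : Fin m => duMap U))).obj F) q ≃+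
      ∀ σ : Fin m → I, CohTop.H ((CohTop.pull (TopCat.ofHom ⟨((↑) : (⋂ k, U (σ k) : Set X) → X), continuous_subtype_val⟩ :
        TopCat.of (⋂ k, U (σ k) : Set X) ⟶ X)).obj F) q) := by
  have h1 : ∀ w : WP U m, ∃ σ : Fin m → I, w ∈ Set.range (piece U m σ) := fun w => by
    refine ⟨fun k => (WidePullback.π (fun _ : Fin m => duMap U) k w).1, ?_⟩
    rw [range_piece]
    exact Set.mem_iInter.2 fun k => ⟨(WidePullback.π (fun _ : Fin m => duMap U) k w).2, rfl⟩
  have h2 : ∀ (σ τ : Fin m → I) (w : WP U m), w ∈ Set.range (piece U m σ) → w ∈ Set.range (piece U m τ) → σ = τ :=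
    fun σ τ w h₁ h₂ => by
    rw [range_piece, Set.mem_iInter] at h₁ h₂
    funext k
    obtain ⟨a, ha⟩ := h₁ k
    obtain ⟨b, hb⟩ := h₂ k
    exact congrArg Sigma.fst (ha.trans hb.symm)
  obtain ⟨e⟩ := nonempty_H_disjoint (piece U m) (isOpenEmbedding_piece U m) h1 h2
    ((CohTop.pull (WidePullback.base (fun _ : Fin m => duMap U))).obj F) q
  exact ⟨e.trans (AddEquiv.piCongrRight fun σ => ((Sheaf.functorH _ q).mapIso
      ((pullComp (piece U m σ) (WidePullback.base _)).app F ≪≫
        eqToIso (congrArg (fun g => (CohTop.pull g).obj F) (piece_base U m σ)))).addCommGroupIsoToAddEquiv)⟩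

/-- The descent spectral sequence of a locally finite closed covering. -/
theorem exists_spectralSequence_closedCover (hU : ∀ i, IsClosed (U i)) (hlf : LocallyFinite U)
    (hcov : ⋃ i, U i = Set.univ) (F : CohTop.Ab X) :
    ∃ (E : CohomologicalSpectralSequence AddCommGrpCat.{u} 1)
      (a : SpSeq.Abutment E (fun n : ℤ =>
        if 0 ≤ n then AddCommGrpCat.of (CohTop.H F n.toNat) else AddCommGrpCat.of PUnit.{u + 1})),
      (∀ n, a.IsFinite n) ∧ SpSeq.IsBounded E ∧
      ∀ p q : ℤ, Nonempty ((E.page 1 le_rfl).X (p, q) ≅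
        (if 0 ≤ p ∧ 0 ≤ q then
          AddCommGrpCat.of (∀ σ : Fin (p.toNat + 1) → I,
            CohTop.H ((CohTop.pull (TopCat.ofHom ⟨((↑) : (⋂ k, U (σ k) : Set X) → X), continuous_subtype_val⟩ :
              TopCat.of (⋂ k, U (σ k) : Set X) ⟶ X)).obj F) q.toNat)
         else AddCommGrpCat.of PUnit.{u + 1})) := by
  obtain ⟨E, a, ha, hE, he⟩ := Descent.exists_spectralSequence_cech (duMap U)
    (isCohDescentMap_of_proper (isProperMap_duMap hU hlf) sep_duMap (surjective_duMap hcov)) F
  refine ⟨E, a, ha, hE, fun p q => ?_⟩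
  by_cases h : 0 ≤ p ∧ 0 ≤ q
  · rw [if_pos h]
    have hp := he p q
    rw [if_pos h] at hp
    exact ⟨hp.some ≪≫ (nonempty_H_WP U (p.toNat + 1) F q.toNat).some.toAddCommGrpIso⟩
  · rw [if_neg h]
    have hp := he p q
    rwa [if_neg h] at hp

end Groth.L10.Proper
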