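import Groth.Agent.L10.TopCoh
import Mathlib.Topology.Sheaves.Functors

/-! Cohomology of a disjoint union. -/

universe u w v

open CategoryTheory CategoryTheory.Limits CategoryTheory.Abelian Opposite TopologicalSpace Topology

set_option backward.defeqAttrib.useBackward true
set_option backward.isDefEq.respectTransparency false
set_option autoImplicit false
namespace Groth.L10.Proper

/-- `Ext` out of a coproduct is the product. -/
theorem bijective_ext_sigma {B : Type*} [Category.{v} B] [Abelian B] [HasExt.{w} B] [EnoughInjectives B]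
    {ι : Type*} (X : ι → B) [HasCoproduct X] (M : B) (n : ℕ) :
    Function.Bijective fun (x : Ext (∐ X) M n) (i : ι) => (Ext.mk₀ (Sigma.ι X i)).comp x (zero_add n) := by
  induction n generalizing M with
  | zero =>
    refine ⟨fun x y h => ?_, fun y => ?_⟩
    · obtain ⟨a, rfl⟩ := (Ext.mk₀_bijective _ _).2 x
      obtain ⟨b, rfl⟩ := (Ext.mk₀_bijective _ _).2 y
      refine congrArg Ext.mk₀ (Sigma.hom_ext _ _ fun i => (Ext.mk₀_bijective _ _).1 ?_)
      have := congrFun h i
      simpa using this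
    · choose a ha using fun i => (Ext.mk₀_bijective (X i) M).2 (y i)
      exact ⟨Ext.mk₀ (Sigma.desc a), funext fun i => by simp [ha i]⟩
  | succ n ih =>
    obtain ⟨P⟩ := EnoughInjectives.presentation M
    let S : ShortComplex B := ShortComplex.mk P.f (cokernel.π P.f) (cokernel.condition _)
    have hS : S.ShortExact := ShortComplex.ShortExact.mk (S.exact_of_g_is_cokernel (cokernelIsCokernel _))
    have : Injective S.X₂ := P.injective
    refine ⟨fun x y h => sub_eq_zero.1 ?_, fun y => ?_⟩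
    · obtain ⟨z, hz⟩ := Ext.covariant_sequence_exact₁ _ hS (x - y) (Ext.eq_zero_of_injective _) (n₀ := n) rfl
      have hw : ∀ i, ∃ w : Ext (X i) S.X₂ n, w.comp (Ext.mk₀ S.g) (add_zero n) = (Ext.mk₀ (Sigma.ι X i)).comp z (zero_add n) := fun i => by
        refine Ext.covariant_sequence_exact₃ _ hS _ (n₁ := n + 1) rfl ?_
        rw [Ext.comp_assoc _ _ _ (zero_add n) rfl (by omega), hz, sub_eq_add_neg, Ext.comp_add, Ext.comp_neg, ← sub_eq_add_neg, sub_eq_zero]
        exact congrFun h i
      choose w hw using hw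
      obtain ⟨w', rfl⟩ := (ih S.X₂).2 w
      have hz' : w'.comp (Ext.mk₀ S.g) (add_zero n) = z := (ih S.X₃).1 (funext fun i => by
        refine Eq.trans ?_ (hw i)
        exact (Ext.comp_assoc _ _ _ _ _ (by omega)).symm)
      rw [← hz, ← hz', Ext.comp_assoc_of_second_deg_zero, hS.comp_extClass, Ext.comp_zero]
    · choose z hz using fun i => Ext.covariant_sequence_exact₁ (X i) hS (y i) (Ext.eq_zero_of_injective _) (n₀ := n) rfl
      obtain ⟨z', rfl⟩ := (ih S.X₃).2 z
      refine ⟨z'.comp hS.extClass rfl, funext fun i => ?_⟩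
      exact (Ext.comp_assoc _ _ _ (zero_add n) rfl (by omega)).symm.trans (hz i)

variable {X K : TopCat.{u}}

/-- Cohomology of the inverse image along an open embedding. -/
theorem nonempty_H_pull_openEmbedding {j : K ⟶ X} (hj : IsOpenEmbedding j) (F : CohTop.Ab X) (O : Opens X)
    (hO : (O : Set X) = Set.range j) (n : ℕ) :
    Nonempty (CohTop.H ((CohTop.pull j).obj F) n ≃+ Ext (SiteCoh.fs (Opens.grothendieckTopology X) O) F n) := by
  let u : Opens K ⥤ Opens X := hj.isOpenMap.functor
  have : u.IsContinuous (Opens.grothendieckTopology K) (Opens.grothendieckTopology X) := hj.functor_isContinuous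
  have : u.IsCocontinuous (Opens.grothendieckTopology K) (Opens.grothendieckTopology X) :=
    ⟨fun {V} S hS p hp => by
      obtain ⟨W, g, hg, hW⟩ := hS (j p) ⟨p, hp, rfl⟩
      refine ⟨(Opens.map j).obj W ⊓ V, homOfLE inf_le_right, ?_, hW, hp⟩
      exact S.downward_closed hg (homOfLE (by rintro q ⟨r, hr, rfl⟩; exact hr.1))⟩
  obtain ⟨e⟩ := SiteCoh.nonempty_push_compare (J := Opens.grothendieckTopology X) (Opens.grothendieckTopology K) u ⊤
    (fun I m _ => by
      have := TopCoh.isFlasque_of_injective I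
      exact TopCoh.subsingleton_ext_of_flasque ((CohSite.push _ _ u).obj I) ⟨fun i => this.epi (u.op.map i)⟩ ⊤ m)
    F (SiteCoh.locAcyclic_of_isCocontinuous _ u F) n
  have hU : u.obj ⊤ = O := Opens.ext (Eq.trans (Set.image_univ) hO.symm)
  obtain ⟨eH⟩ : Nonempty (CohTop.H ((CohTop.pull j).obj F) n ≃+ CohTop.H ((hj.sheafPullback AddCommGrpCat.{u}).obj F) n) :=
    ⟨((Sheaf.functorH _ n).mapIso ((hj.sheafPullbackIso AddCommGrpCat.{u}).app F)).addCommGroupIsoToAddEquiv⟩
  exact ⟨eH.trans ((SiteCoh.hEquiv (TopCoh.topTerminal K) _ n).trans (e.symm.trans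
    (AddEquiv.cast (M := fun V => Ext (SiteCoh.fs (Opens.grothendieckTopology X) V) F n) hU)))⟩

theorem subsingleton_sections_of_isEmpty (G : CohTop.Ab X) (U : Opens X) (h : ∀ x, x ∉ U) :
    Subsingleton (G.obj.obj (op U)) :=
  ⟨fun a b => TopCat.Sheaf.eq_of_locally_eq' G (fun k : PEmpty.{u + 1} => U) U (fun k => k.elim)
    (fun x hx => (h x hx).elim) a b fun k => k.elim⟩

/-- The free sheaf of a disjoint union is the coproduct. -/
theorem nonempty_fs_top_iso {ι : Type u} (O : ι → Opens X) (hcov : ∀ x, ∃ i, x ∈ O i)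
    (hdisj : ∀ i k x, x ∈ O i → x ∈ O k → i = k) :
    Nonempty ((∐ fun i => SiteCoh.fs (Opens.grothendieckTopology X) (O i)) ≅
      SiteCoh.fs (Opens.grothendieckTopology X) ⊤) := by
  let J := Opens.grothendieckTopology X
  let φ : (∐ fun i => SiteCoh.fs J (O i)) ⟶ SiteCoh.fs J ⊤ :=
    Sigma.desc fun i => SiteCoh.fsMap J (homOfLE le_top)
  have : IsIso φ := by
    refine isIso_of_coyoneda_map_bijective _ fun G => ⟨fun a b h => ?_, fun b => ?_⟩
    · apply (SiteCoh.secEquiv J ⊤ G).injective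
      refine TopCat.Sheaf.eq_of_locally_eq' G O ⊤ (fun i => homOfLE le_top) (fun x _ => Opens.mem_iSup.2 (hcov x)) _ _ fun i => ?_
      have e := congrArg (fun k => Sigma.ι (fun i => SiteCoh.fs J (O i)) i ≫ k) h
      simp only [φ, Sigma.ι_desc_assoc] at e
      exact ((SiteCoh.secEquiv_map _ a).symm.trans (congrArg _ e)).trans (SiteCoh.secEquiv_map _ b)
    · let t : ∀ i, G.obj.obj (op (O i)) := fun i => SiteCoh.secEquiv J (O i) G (Sigma.ι (fun i => SiteCoh.fs J (O i)) i ≫ b)
      obtain ⟨s, hs, -⟩ := TopCat.Sheaf.existsUnique_gluing' G O ⊤ (fun i => homOfLE le_top)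
        (fun x _ => Opens.mem_iSup.2 (hcov x)) t (fun i k => by
          by_cases h : i = k
          · subst h; rfl
          · have := subsingleton_sections_of_isEmpty G (O i ⊓ O k) fun x hx => h (hdisj i k x hx.1 hx.2)
            exact Subsingleton.elim _ _)
      refine ⟨(SiteCoh.secEquiv J ⊤ G).symm s, Sigma.hom_ext _ _ fun i => (SiteCoh.secEquiv J (O i) G).injective ?_⟩
      simp only [φ, Sigma.ι_desc_assoc]
      exact (SiteCoh.secEquiv_map _ _).trans ((congrArg _ ((SiteCoh.secEquiv J ⊤ G).apply_symm_apply s)).trans (hs i))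
  exact ⟨asIso φ⟩

/-- Cohomology of a disjoint union is the product. -/
theorem nonempty_H_disjoint {ι : Type u} {K : ι → TopCat.{u}} (j : ∀ i, K i ⟶ X) (hj : ∀ i, IsOpenEmbedding (j i))
    (hcov : ∀ x, ∃ i, x ∈ Set.range (j i)) (hdisj : ∀ i k x, x ∈ Set.range (j i) → x ∈ Set.range (j k) → i = k)
    (F : CohTop.Ab X) (n : ℕ) :
    Nonempty (CohTop.H F n ≃+ ∀ i, CohTop.H ((CohTop.pull (j i)).obj F) n) := by
  let O : ι → Opens X := fun i => ⟨Set.range (j i), (hj i).isOpen_range⟩
  obtain ⟨e⟩ := nonempty_fs_top_iso O hcov hdisj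
  let E : Ext (∐ fun i => SiteCoh.fs (Opens.grothendieckTopology X) (O i)) F n ≃+
      ∀ i, Ext (SiteCoh.fs (Opens.grothendieckTopology X) (O i)) F n :=
    AddEquiv.ofBijective (AddMonoidHom.mk' (fun x i => (Ext.mk₀ (Sigma.ι _ i)).comp x (zero_add n))
      (fun x y => funext fun i => Ext.comp_add _ _ _ _)) (bijective_ext_sigma _ F n)
  exact ⟨(SiteCoh.hEquiv (TopCoh.topTerminal X) F n).trans
    ((AddEquiv.ofBijective (AddMonoidHom.mk' (fun x => (Ext.mk₀ e.hom).comp x (zero_add n))
        (fun x y => Ext.comp_add _ _ _ _))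
      ⟨fun x y h => by simpa using congrArg (fun z => (Ext.mk₀ e.inv).comp z (zero_add n)) h,
        fun z => ⟨(Ext.mk₀ e.inv).comp z (zero_add n), by simp⟩⟩).trans
      (E.trans (AddEquiv.piCongrRight fun i =>
        (nonempty_H_pull_openEmbedding (hj i) F (O i) rfl n).some.symm)))⟩

end Groth.L10.Proper
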