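import Groth.Agent.L17.GrothSS
import Groth.Agent.L17.SingleRDer
import Mathlib.Algebra.Homology.DerivedCategory.ExactFunctor

/-! Right derived functors of a composite whose first factor is exact. -/

universe w v u v' u' v'' u''

open CategoryTheory CategoryTheory.Limits

set_option backward.defeqAttrib.useBackward true
set_option backward.isDefEq.respectTransparency false
set_option autoImplicit false
namespace Groth.L10.Proper

variable {C : Type u'} [Category.{v'} C] [Abelian C] [HasInjectiveResolutions C]
  {C' : Type u} [Category.{v} C'] [Abelian C'] [EnoughInjectives C']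
  {C'' : Type u''} [Category.{v''} C''] [Abelian C'']
  (T : C ⥤ C') [T.Additive] [PreservesFiniteLimits T] [PreservesFiniteColimits T]
  (S : C' ⥤ C'') [S.Additive] [PreservesFiniteLimits S]

/-- `R^n(S ∘ T) = R^n S ∘ T` for exact `T` sending injectives to acyclic objects. -/
theorem nonempty_rightDerived_comp_exact
    (hT : ∀ Q : C, Injective Q → ∀ q : ℕ, 0 < q → IsZero ((S.rightDerived q).obj (T.obj Q)))
    (A : C) (n : ℕ) :
    Nonempty (((T ⋙ S).rightDerived n).obj A ≅ (S.rightDerived n).obj (T.obj A)) := by
  let := HasDerivedCategory.standard C'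
  let I := injectiveResolution A
  obtain ⟨e⟩ := L17.GrothSS.nonempty_hhTCxIso T S I hT n
  have : QuasiIso ((T.mapHomologicalComplex (ComplexShape.up ℤ)).map I.ι') := inferInstance
  let q := asIso (DerivedCategory.Q.map ((T.mapHomologicalComplex (ComplexShape.up ℤ)).map I.ι'))
  let j : (DerivedCategory.Plus.singleFunctor C' 0).obj (T.obj A) ≅
      DerivedCategory.Plus.Q.obj (L17.GrothSS.TCx T I) :=
    DerivedCategory.Plus.ι.preimageIso ((DerivedCategory.singleFunctorIsoCompQ C' 0).app (T.obj A) ≪≫
      DerivedCategory.Q.mapIso (((T.mapCochainComplexSingleFunctor 0).app A).symm) ≪≫ q)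
  exact ⟨e.symm ≪≫ ((L17.GrothSS.HH S (n : ℤ)).mapIso j).symm ≪≫ L17.GrothSS.hhSingleZeroIso S (T.obj A) n⟩

end Groth.L10.Proper
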