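import Groth.Agent.L10.Proper.PushFormula
import Groth.Agent.L10.Proper.BaseChange
import Groth.Agent.L09.DerivedTransport

/-! Inverse image along a map of augmented simplicial spaces. -/

universe u

open CategoryTheory CategoryTheory.Limits Opposite Simplicial TopologicalSpace
open Pseudofunctor.CoGrothendieck
open Groth.L09.SpaceSite Groth.L09

set_option backward.defeqAttrib.useBackward true
set_option backward.isDefEq.respectTransparency false
set_option backward.isDefEq.respectTransparency.types false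
set_option autoImplicit false
namespace Groth.L10.Proper

open Groth.L10.Descent (Tot toBot pre inP)

variable {Y' Y : (WithInitial SimplexCategory)ᵒᵖ ⥤ TopCat.{u}} (j : Y' ⟶ Y)

/-- The component of a level. -/
abbrev jP (i : SimplexCategoryᵒᵖ) :
    Y'.obj ((FibDesc.toAug SimplexCategory).obj i) ⟶ Y.obj ((FibDesc.toAug SimplexCategory).obj i) :=
  j.app ((FibDesc.toAug SimplexCategory).obj i)

/-- The component of the base. -/
abbrev jB : base Y' ⟶ base Y := j.app (FibDesc.bot SimplexCategory)

theorem j_nat_apply {i k : (WithInitial SimplexCategory)ᵒᵖ} (h : i ⟶ k) (x : Y'.obj i) :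
    j.app k (Y'.map h x) = Y.map h (j.app i x) :=
  ConcreteCategory.congr_hom (j.naturality h) x

/-- Preimage along `j`. -/
noncomputable def mP : Tot Y ⥤ Tot Y' where
  obj X := mkP X.base ((Opens.map (jP j X.base)).obj (obP X))
  map {X Z} a := homP a.base (fun x hx => by
    show jP j Z.base (Y'.map ((FibDesc.toAug SimplexCategory).map a.base) x) ∈ obP Z
    rw [j_nat_apply]
    exact homP_le a hx)
  map_id X := homP_ext rfl
  map_comp a b := homP_ext rfl

/-- `mP` on fibres. -/
noncomputable def mPIso (i : SimplexCategoryᵒᵖ) : inP Y i ⋙ mP j ≅ Opens.map (jP j i) ⋙ inP Y' i :=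
  NatIso.ofComponents (fun _ => Iso.refl _) fun _ => homP_ext (by
    show 𝟙 i ≫ 𝟙 i = 𝟙 i ≫ 𝟙 i
    rfl)

instance mP_isContinuous : (mP j).IsContinuous (JP Y) (JP Y') :=
  isContinuous_of_fibres (isPreFibSite_part Y) (isPreFibSite_part Y') _ fun i =>
    ⟨i, Opens.map (jP j i), inferInstanceAs ((Opens.map (jP j i)).IsContinuous _ _), ⟨mPIso j i⟩⟩

instance mP_flat : RepresentablyFlat (mP j) := by
  refine ⟨fun x => ?_⟩
  let mkS : ∀ (V : Opens (Y.obj ((FibDesc.toAug SimplexCategory).obj x.base))),
      obP x ≤ (Opens.map (jP j x.base)).obj V → StructuredArrow x (mP j) := fun V h =>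
    StructuredArrow.mk (Y := mkP x.base V) (homP (X := x) (Z := (mP j).obj (mkP x.base V)) (𝟙 _) (fun z hz => by
      show Y'.map ((FibDesc.toAug SimplexCategory).map (𝟙 x.base)) z ∈ (Opens.map (jP j x.base)).obj V
      rw [CategoryTheory.Functor.map_id, CategoryTheory.Functor.map_id]
      exact h hz))
  let pb : ∀ g : StructuredArrow x (mP j), Opens (Y.obj ((FibDesc.toAug SimplexCategory).obj x.base)) :=
    fun g => (Opens.map (Y.map ((FibDesc.toAug SimplexCategory).map g.hom.base))).obj (obP g.right)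
  have hpb : ∀ g, obP x ≤ (Opens.map (jP j x.base)).obj (pb g) := fun g z hz => by
    have h := homP_le g.hom hz
    show Y.map ((FibDesc.toAug SimplexCategory).map g.hom.base) (jP j x.base z) ∈ obP g.right
    rw [← j_nat_apply]
    exact h
  let toG : ∀ (g : StructuredArrow x (mP j)) (V) (h : obP x ≤ (Opens.map (jP j x.base)).obj V) (_ : V ≤ pb g),
      mkS V h ⟶ g := fun g V h hV =>
    StructuredArrow.homMk (homP (X := mkP x.base V) (Z := g.right) g.hom.base hV) (homP_ext (Category.id_comp _))
  refine { nonempty := ⟨mkS ⊤ fun _ _ => trivial⟩, cone_objs := fun g g' => ?_, cone_maps := fun g g' a b => ?_ }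
  · have hW : obP x ≤ (Opens.map (jP j x.base)).obj (pb g ⊓ pb g') := fun z hz => ⟨hpb g hz, hpb g' hz⟩
    exact ⟨mkS (pb g ⊓ pb g') hW, toG g _ hW inf_le_left, toG g' _ hW inf_le_right, trivial⟩
  · refine ⟨mkS (pb g) (hpb g), toG g _ (hpb g) le_rfl, StructuredArrow.ext (toG g _ (hpb g) le_rfl ≫ a) (toG g _ (hpb g) le_rfl ≫ b) (homP_ext ?_)⟩
    exact (congrArg (fun k : x ⟶ (mP j).obj g'.right => k.base) (StructuredArrow.w a)).trans
      (congrArg (fun k : x ⟶ (mP j).obj g'.right => k.base) (StructuredArrow.w b)).symm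

/-- Restriction along `mP`. -/
noncomputable abbrev mPush : Sheaf (JP Y') AddCommGrpCat.{u} ⥤ Sheaf (JP Y) AddCommGrpCat.{u} :=
  (mP j).sheafPushforwardContinuous AddCommGrpCat.{u} (JP Y) (JP Y')

/-- Inverse image along `j`. -/
noncomputable abbrev rP : Sheaf (JP Y) AddCommGrpCat.{u} ⥤ Sheaf (JP Y') AddCommGrpCat.{u} :=
  (mP j).sheafPullback AddCommGrpCat.{u} (JP Y) (JP Y')

/-- Its adjunction. -/
noncomputable abbrev aP : rP j ⊣ mPush j :=
  (mP j).sheafAdjunctionContinuous AddCommGrpCat.{u} (JP Y) (JP Y')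

instance rP_preservesFiniteLimits : PreservesFiniteLimits (rP j) :=
  Precomp.preservesFiniteLimits_pullback (mP j)

/-- Sheaves on one level. -/
noncomputable abbrev lev' (Z : (WithInitial SimplexCategory)ᵒᵖ ⥤ TopCat.{u}) (i : SimplexCategoryᵒᵖ) :=
  Descent.res (inP Z i) (Opens.grothendieckTopology (Z.obj ((FibDesc.toAug SimplexCategory).obj i))) (JP Z)

/-- The unit on one level. -/
noncomputable def levUnit (M : Sheaf (JP Y) AddCommGrpCat.{u}) (i : SimplexCategoryᵒᵖ) :
    (lev' Y i).obj M ⟶ (CohTop.push (jP j i)).obj ((lev' Y' i).obj ((rP j).obj M)) :=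
  ObjectProperty.homMk
    { app := fun V => ((aP j).unit.app M).hom.app (op ((inP Y i).obj V.unop))
      naturality := fun V W f => by
        refine (((aP j).unit.app M).hom.naturality ((inP Y i).map f.unop).op).trans ?_
        refine congrArg (_ ≫ ·) ?_
        show ((rP j).obj M).obj.map ((mP j).map ((inP Y i).map f.unop)).op =
          ((rP j).obj M).obj.map ((inP Y' i).map ((Opens.map (jP j i)).map f.unop)).op
        congr 2 }

/-- The square of one level. -/
noncomputable def eLev (i : SimplexCategoryᵒᵖ) : Opens.map (jP j i) ⋙ inP Y' i ≅ inP Y i ⋙ mP j :=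
  (mPIso j i).symm

theorem initial_Φ (i : SimplexCategoryᵒᵖ) (x : Tot Y) : (SheafBC.Φ (eLev j i) x).Initial where
  out d := by
    let W : Opens (Y'.obj ((FibDesc.toAug SimplexCategory).obj i)) := d.right.unop
    let h : i ⟶ x.base := d.hom.unop.base
    let V₀ : Opens (Y.obj ((FibDesc.toAug SimplexCategory).obj i)) :=
      (Opens.map (Y.map ((FibDesc.toAug SimplexCategory).map h))).obj (obP x)
    have hW : W ≤ (Opens.map (jP j i)).obj V₀ := fun z hz => by
      have h1 := homP_le d.hom.unop hz
      show Y.map ((FibDesc.toAug SimplexCategory).map h) (jP j i z) ∈ obP x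
      rw [← j_nat_apply]
      exact h1
    let g₀ : StructuredArrow (op x) (inP Y i).op :=
      StructuredArrow.mk (Y := op V₀) (homP (X := (inP Y i).obj V₀) (Z := x) h le_rfl).op
    let c₀ : CostructuredArrow (SheafBC.Φ (eLev j i) x) d :=
      CostructuredArrow.mk (Y := g₀) (StructuredArrow.homMk (le_hom hW).op (Quiver.Hom.unop_inj (homP_ext (by
        show 𝟙 i ≫ 𝟙 i ≫ h = h
        simp))))
    have : Nonempty (CostructuredArrow (SheafBC.Φ (eLev j i) x) d) := ⟨c₀⟩
    have key : ∀ c : CostructuredArrow (SheafBC.Φ (eLev j i) x) d, Nonempty (c₀ ⟶ c) := fun c => by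
      have hh : c.left.hom.unop.base = h := by
        have e := congrArg (fun z => z.unop.base) (StructuredArrow.w c.hom)
        exact (show 𝟙 i ≫ 𝟙 i ≫ c.left.hom.unop.base = c.left.hom.unop.base by simp).symm.trans e
      let V : Opens (Y.obj ((FibDesc.toAug SimplexCategory).obj i)) := c.left.right.unop
      have hV : V ≤ V₀ := fun z hz => by
        have h' := homP_le c.left.hom.unop hz
        rw [hh] at h'
        exact h'
      refine ⟨CostructuredArrow.homMk (StructuredArrow.homMk (le_hom hV).op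
        (Quiver.Hom.unop_inj (homP_ext ((Category.id_comp _).trans hh.symm).symm.symm)))
        (StructuredArrow.ext _ _ (Quiver.Hom.unop_inj (Subsingleton.elim _ _)))⟩
    exact zigzag_isConnected fun c c' => Relation.ReflTransGen.trans (.single (Or.inr (key c))) (.single (Or.inl (key c')))

/-- The unit identifies stalks on every level. -/
theorem isPullUnit_levUnit (M : Sheaf (JP Y) AddCommGrpCat.{u}) (i : SimplexCategoryᵒᵖ) :
    IsPullUnit (jP j i) (levUnit j M i) := by
  let J₁ := Opens.grothendieckTopology (Y.obj ((FibDesc.toAug SimplexCategory).obj i))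
  let J₂ := Opens.grothendieckTopology (Y'.obj ((FibDesc.toAug SimplexCategory).obj i))
  let l := (inP Y i).sheafAdjunctionCocontinuous AddCommGrpCat.{u} J₁ (JP Y)
  let r := (inP Y' i).sheafAdjunctionCocontinuous AddCommGrpCat.{u} J₂ (JP Y')
  let p := TopCat.Sheaf.pullbackPushforwardAdjunction AddCommGrpCat.{u} (jP j i)
  let β := fun Z => SheafBC.β J₁ J₂ (JP Y) (JP Y') AddCommGrpCat.{u} (eLev j i) Z
  have hβ : ∀ Z, IsIso (β Z) := fun Z => by
    have := initial_Φ j i
    exact SheafBC.isIso_β J₁ J₂ (JP Y) (JP Y') AddCommGrpCat.{u} (eLev j i) Z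
  let θ := SheafBC.θ J₁ J₂ (JP Y) (JP Y') AddCommGrpCat.{u} (eLev j i)
  let β' : (inP Y' i).sheafPushforwardCocontinuous AddCommGrpCat.{u} J₂ (JP Y') ⋙ mPush j ≅
      CohTop.push (jP j i) ⋙ (inP Y i).sheafPushforwardCocontinuous AddCommGrpCat.{u} J₁ (JP Y) :=
    NatIso.ofComponents (fun Z => @asIso _ _ _ _ (β Z) (hβ Z)) (fun {Z Z'} φ => by
      dsimp only [asIso_hom, Functor.comp_map, β, SheafBC.β]
      refine ((l.homEquiv_naturality_left _ _).symm.trans
        ((congrArg _ ?_).trans (l.homEquiv_naturality_right _ _)))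
      refine ((Category.assoc _ _ _).symm.trans (congrArg (· ≫ _)
        (θ.hom.naturality ((inP Y' i).sheafPushforwardCocontinuous AddCommGrpCat.{u} J₂ (JP Y') |>.map φ)))).trans ?_
      refine (Category.assoc _ _ _).trans (Eq.trans ?_ (Category.assoc _ _ _).symm)
      refine congrArg (θ.hom.app _ ≫ ·) ?_
      rw [Functor.comp_map, ← Functor.map_comp]
      refine (congrArg (fun z => ((Opens.map (jP j i)).sheafPushforwardContinuous AddCommGrpCat.{u} J₁ J₂).map z)
        (r.counit.naturality φ)).trans (Functor.map_comp _ _ _))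
  let A₁ := l.comp p
  let A₂ := ((aP j).comp r).ofNatIsoRight β'
  let e := Adjunction.leftAdjointUniq A₁ A₂
  have he : pullUnit (jP j i) ((lev' Y i).obj M) ≫ (CohTop.push (jP j i)).map (e.hom.app M) = levUnit j M i := by
    apply (l.homEquiv _ _).injective
    have h1 : A₁.homEquiv M _ (e.hom.app M) = A₂.unit.app M := by
      rw [Adjunction.homEquiv_unit]
      exact Adjunction.unit_leftAdjointUniq_hom_app A₁ A₂ M
    rw [Adjunction.comp_homEquiv] at h1
    refine (Eq.trans (congrArg (l.homEquiv _ _) (p.homEquiv_unit _ _ _).symm) h1).trans ?_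
    apply (l.homEquiv _ _).symm.injective
    refine Eq.trans ?_ (Equiv.symm_apply_apply _ _).symm
    show (l.homEquiv _ _).symm (((aP j).unit.app M ≫ (mPush j).map (r.unit.app _)) ≫ β _) = _
    refine (l.homEquiv_naturality_left_symm _ _).trans ?_
    refine (congrArg (_ ≫ ·) ((l.homEquiv _ _).symm_apply_apply _)).trans ?_
    rw [Functor.map_comp, Category.assoc]
    refine (congrArg ((lev' Y i).map ((aP j).unit.app M) ≫ ·)
      ((Category.assoc _ _ _).symm.trans ((congrArg (· ≫ _) (θ.hom.naturality (r.unit.app _))).trans (Category.assoc _ _ _)))).trans ?_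
    refine (congrArg (fun z => (lev' Y i).map ((aP j).unit.app M) ≫ θ.hom.app _ ≫ z)
      (((((Opens.map (jP j i)).sheafPushforwardContinuous AddCommGrpCat.{u} J₁ J₂).map_comp _ _).symm.trans
        ((congrArg (fun w => ((Opens.map (jP j i)).sheafPushforwardContinuous AddCommGrpCat.{u} J₁ J₂).map w)
          (r.left_triangle_components _)).trans (CategoryTheory.Functor.map_id _ _))))).trans ?_
    erw [Category.comp_id]
    refine Sheaf.hom_ext (NatTrans.ext (funext fun V => ?_))
    show ((aP j).unit.app M).hom.app (op ((inP Y i).obj V.unop)) ≫ ((rP j).obj M).obj.map ((eLev j i).hom.app V.unop).op =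
      ((aP j).unit.app M).hom.app (op ((inP Y i).obj V.unop))
    refine (congrArg (_ ≫ ·) ((congrArg (fun z => ((rP j).obj M).obj.map z) (show ((eLev j i).hom.app V.unop).op = 𝟙 _ from rfl)).trans
      (((rP j).obj M).obj.map_id _))).trans (Category.comp_id _)
  rw [← he]
  exact (isPullUnit_pullUnit (jP j i) ((lev' Y i).obj M)).comp_iso _ (e.hom.app M)

end Groth.L10.Proper
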