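import Groth.Agent.L10.Proper.Trace

/-! Base change of the direct image to the fibre over a point. -/

universe u

open CategoryTheory CategoryTheory.Limits Opposite Simplicial TopologicalSpace AlgebraicTopology
open Pseudofunctor.CoGrothendieck
open Groth.L09.SpaceSite Groth.L09

set_option backward.defeqAttrib.useBackward true
set_option backward.isDefEq.respectTransparency false
set_option backward.isDefEq.respectTransparency.types false
set_option autoImplicit false
namespace Groth.L10.Proper

open Groth.L10.Descent (Tot toBot pre inP)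

variable {Y' Y : (WithInitial SimplexCategory)ᵒᵖ ⥤ TopCat.{u}} (j : Y' ⟶ Y)

/-- Preimages of the base seen from `Y'`. -/
noncomputable def toObj (U : Opens (base Y)) (i : SimplexCategoryᵒᵖ) :
    (objU Y' ((Opens.map (jB j)).obj U)).obj i ⟶ (mP j).obj ((objU Y U).obj i) :=
  homP (𝟙 i) (fun k hk => by
    show Y.map (toBot _) (jP j i (Y'.map ((FibDesc.toAug SimplexCategory).map (𝟙 i)) k)) ∈ U
    rw [CategoryTheory.Functor.map_id, CategoryTheory.Functor.map_id]
    exact (j_nat_apply j (toBot _) k) ▸ hk)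

/-- The inverse of `toObj`. -/
noncomputable def ofObj (U : Opens (base Y)) (i : SimplexCategoryᵒᵖ) :
    (mP j).obj ((objU Y U).obj i) ⟶ (objU Y' ((Opens.map (jB j)).obj U)).obj i :=
  homP (𝟙 i) (fun k hk => by
    show jB j (Y'.map (toBot _) (Y'.map ((FibDesc.toAug SimplexCategory).map (𝟙 i)) k)) ∈ U
    rw [CategoryTheory.Functor.map_id, CategoryTheory.Functor.map_id]
    exact (j_nat_apply j (toBot _) k).symm ▸ hk)

theorem map_toObj_ofObj (M : Sheaf (JP Y') AddCommGrpCat.{u}) (U : Opens (base Y)) (i : SimplexCategoryᵒᵖ)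
    (t : M.obj.obj (op ((mP j).obj ((objU Y U).obj i)))) :
    M.obj.map (ofObj j U i).op (M.obj.map (toObj j U i).op t) = t :=
  (map_map Y' M _ _ t).trans ((map_congr Y' M (b := 𝟙 _) (Category.id_comp _) t).trans
    (ConcreteCategory.congr_hom (M.obj.map_id _) t))

theorem map_ofObj_toObj (M : Sheaf (JP Y') AddCommGrpCat.{u}) (U : Opens (base Y)) (i : SimplexCategoryᵒᵖ)
    (t : M.obj.obj (op ((objU Y' ((Opens.map (jB j)).obj U)).obj i))) :
    M.obj.map (toObj j U i).op (M.obj.map (ofObj j U i).op t) = t :=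
  (map_map Y' M _ _ t).trans ((map_congr Y' M (b := 𝟙 _) (Category.id_comp _) t).trans
    (ConcreteCategory.congr_hom (M.obj.map_id _) t))

variable (M : Sheaf (JP Y') AddCommGrpCat.{u}) (U : Opens (base Y))

theorem isDesc_toObj (t : M.obj.obj (op ((mP j).obj ((objU Y U).obj (lv 0)))))
    (ht : IsDesc Y ((mPush j).obj M) U t) :
    IsDesc Y' M ((Opens.map (jB j)).obj U) (M.obj.map (toObj j U (lv 0)).op t) := by
  have h := congrArg (M.obj.map (toObj j U (lv 1)).op) ht
  refine ((map_map Y' M _ _ t).trans ((map_congr Y' M ?_ t).trans (map_map Y' M _ _ t).symm)).trans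
    (h.trans ((map_map Y' M _ _ t).trans ((map_congr Y' M ?_ t).trans (map_map Y' M _ _ t).symm)))
  · exact (Category.comp_id _).trans (Category.id_comp _).symm
  · exact (Category.id_comp _).trans (Category.comp_id _).symm

theorem isDesc_ofObj (t : M.obj.obj (op ((objU Y' ((Opens.map (jB j)).obj U)).obj (lv 0))))
    (ht : IsDesc Y' M ((Opens.map (jB j)).obj U) t) :
    IsDesc Y ((mPush j).obj M) U (M.obj.map (ofObj j U (lv 0)).op t) := by
  have h := congrArg (M.obj.map (ofObj j U (lv 1)).op) ht
  refine ((map_map Y' M _ _ t).trans ((map_congr Y' M ?_ t).trans (map_map Y' M _ _ t).symm)).trans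
    (h.trans ((map_map Y' M _ _ t).trans ((map_congr Y' M ?_ t).trans (map_map Y' M _ _ t).symm)))
  · exact (Category.comp_id _).trans (Category.id_comp _).symm
  · exact (Category.id_comp _).trans (Category.comp_id _).symm

/-- Descent data seen on `Y'`. -/
noncomputable def rhoFun (z : ((SpaceCrit.push Y).obj ((mPush j).obj M)).obj.obj (op U)) :
    ((SpaceCrit.push Y').obj M).obj.obj (op ((Opens.map (jB j)).obj U)) :=
  (exists_of_isDesc M _ _ (isDesc_toObj j M U _ (isDesc_proj ((mPush j).obj M) U z))).choose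

theorem rhoFun_spec (z : ((SpaceCrit.push Y).obj ((mPush j).obj M)).obj.obj (op U)) :
    proj Y' M _ (rhoFun j M U z) = M.obj.map (toObj j U (lv 0)).op (proj Y ((mPush j).obj M) U z) :=
  (exists_of_isDesc M _ _ (isDesc_toObj j M U _ (isDesc_proj ((mPush j).obj M) U z))).choose_spec

theorem rhoFun_bijective : Function.Bijective (rhoFun j M U) := by
  refine ⟨fun z z' e => proj_injective _ U ?_, fun w => ?_⟩
  · have := congrArg (proj Y' M _) e
    rw [rhoFun_spec, rhoFun_spec] at this
    exact (map_toObj_ofObj j M U _ _).symm.trans ((congrArg _ this).trans (map_toObj_ofObj j M U _ _))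
  · obtain ⟨z, hz⟩ := exists_of_isDesc _ U _ (isDesc_ofObj j M U _ (isDesc_proj M _ w))
    refine ⟨z, proj_injective M _ ?_⟩
    rw [rhoFun_spec, hz]
    exact map_ofObj_toObj j M U _ _

/-- The direct images agree. -/
noncomputable def rho : mPush j ⋙ SpaceCrit.push Y ⟶ SpaceCrit.push Y' ⋙ CohTop.push (jB j) where
  app M := ObjectProperty.homMk
    { app := fun U => AddCommGrpCat.ofHom (AddMonoidHom.mk' (rhoFun j M U.unop) (fun z z' => proj_injective M _ (by
        rw [rhoFun_spec, map_add, map_add, map_add, rhoFun_spec, rhoFun_spec])))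
      naturality := fun U V f => by
        ext z
        refine proj_injective M _ ?_
        refine (rhoFun_spec j M V.unop _).trans ?_
        refine (congrArg (M.obj.map (toObj j V.unop (lv 0)).op) (proj_res Y ((mPush j).obj M) (le_of f.unop) z)).trans ?_
        refine Eq.trans ?_ (proj_res Y' M ((Opens.map (jB j)).monotone (le_of f.unop)) (rhoFun j M U.unop z)).symm
        rw [rhoFun_spec]
        refine (map_map Y' M _ ((mP j).map (objULe Y (le_of f.unop) (lv 0))) _).trans
          ((map_congr Y' M ?_ _).trans (map_map Y' M _ _ _).symm)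
        exact (Category.id_comp _).trans (Category.id_comp _).symm }
  naturality M N φ := by
    ext U : 3
    ext z
    refine proj_injective N _ ?_
    refine (rhoFun_spec j N U.unop _).trans ?_
    refine (congrArg (N.obj.map (toObj j U.unop (lv 0)).op) (proj_natural Y ((mPush j).map φ) U.unop z)).trans ?_
    refine Eq.trans ?_ (proj_natural Y' φ _ (rhoFun j M U.unop z)).symm
    rw [rhoFun_spec]
    exact (NatTrans.naturality_apply φ.hom (toObj j U.unop (lv 0)).op _).symm

instance isIso_rho : IsIso (rho j) := by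
  have : ∀ M, IsIso ((rho j).app M) := fun M => by
    have : IsIso ((sheafToPresheaf _ _).map ((rho j).app M)) := by
      refine @NatIso.isIso_of_isIso_app _ _ _ _ _ _ _ fun U => ?_
      rw [ConcreteCategory.isIso_iff_bijective]
      exact rhoFun_bijective j M U.unop
    exact isIso_of_fully_faithful (sheafToPresheaf _ _) _
  exact NatIso.isIso_of_isIso_app _

/-- The base change map before adjunction. -/
noncomputable def bHat (M : Sheaf (JP Y) AddCommGrpCat.{u}) :
    (SpaceCrit.push Y).obj M ⟶ (CohTop.push (jB j)).obj ((SpaceCrit.push Y').obj ((rP j).obj M)) :=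
  (SpaceCrit.push Y).map ((aP j).unit.app M) ≫ (rho j).app ((rP j).obj M)

theorem proj_bHat (M : Sheaf (JP Y) AddCommGrpCat.{u}) (U : Opens (base Y))
    (z : ((SpaceCrit.push Y).obj M).obj.obj (op U)) :
    proj Y' ((rP j).obj M) _ ((bHat j M).hom.app (op U) z) =
      ((rP j).obj M).obj.map (toObj j U (lv 0)).op
        (((aP j).unit.app M).hom.app (op ((objU Y U).obj (lv 0))) (proj Y M U z)) :=
  (rhoFun_spec j ((rP j).obj M) U _).trans
    (congrArg (((rP j).obj M).obj.map (toObj j U (lv 0)).op) (proj_natural Y ((aP j).unit.app M) U z))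

/-- The comparison of inverse images. -/
noncomputable def nu : CohTop.pull (jB j) ⋙ SpaceCrit.pull Y' ⟶ SpaceCrit.pull Y ⋙ rP j :=
  (Adjunction.leftAdjointUniq
    ((TopCat.Sheaf.pullbackPushforwardAdjunction AddCommGrpCat.{u} (jB j)).comp (SpaceCrit.adj Y'))
    (((SpaceCrit.adj Y).comp (aP j)).ofNatIsoRight (asIso (rho j)))).hom

instance isIso_nu : IsIso (nu j) := by
  unfold nu
  infer_instance

theorem homEquiv_base (M : Sheaf (JP Y) AddCommGrpCat.{u}) :
    (TopCat.Sheaf.pullbackPushforwardAdjunction AddCommGrpCat.{u} (jB j)).homEquiv _ _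
      (DerivedCrit.base (SpaceCrit.adj Y) (SpaceCrit.adj Y') (nu j) M) = bHat j M := by
  let p := TopCat.Sheaf.pullbackPushforwardAdjunction AddCommGrpCat.{u} (jB j)
  let A₁ := p.comp (SpaceCrit.adj Y')
  let A₂ := ((SpaceCrit.adj Y).comp (aP j)).ofNatIsoRight (asIso (rho j))
  let g := (rP j).map ((SpaceCrit.adj Y).counit.app M)
  have h1 : A₁.homEquiv ((SpaceCrit.push Y).obj M) _ ((nu j).app _ ≫ g) = A₂.homEquiv ((SpaceCrit.push Y).obj M) _ g := by
    rw [A₁.homEquiv_naturality_right, A₂.homEquiv_unit _ _ g, A₁.homEquiv_unit]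
    exact congrArg (· ≫ _) (Adjunction.unit_leftAdjointUniq_hom_app A₁ A₂ _)
  rw [Adjunction.comp_homEquiv] at h1
  refine h1.trans ?_
  refine (Adjunction.homEquiv_ofNatIsoRight_apply ((SpaceCrit.adj Y).comp (aP j)) (asIso (rho j)) (X := (SpaceCrit.push Y).obj M) g).trans ?_
  refine congrArg (· ≫ _) ?_
  rw [Adjunction.comp_homEquiv]
  refine (congrArg ((SpaceCrit.adj Y).homEquiv _ _)
    (((aP j).homEquiv_unit _ _ g).trans ((aP j).unit.naturality ((SpaceCrit.adj Y).counit.app M)).symm)).trans ?_
  rw [Adjunction.homEquiv_unit]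
  exact ((congrArg (_ ≫ ·) ((SpaceCrit.push Y).map_comp _ _)).trans (Category.assoc _ _ _).symm).trans
    ((congrArg (· ≫ _) ((SpaceCrit.adj Y).right_triangle_components M)).trans (Category.id_comp _))

theorem top_le {B : TopCat.{u}} [Subsingleton B] {W : Opens B} {b : B} (hb : b ∈ W) : ⊤ ≤ W :=
  fun x _ => Subsingleton.elim b x ▸ hb

variable {s : base Y} (hj : IsFibre j s)

theorem TT_eq (M : Sheaf (JP Y) AddCommGrpCat.{u}) {U : Opens (base Y)} (hs : s ∈ U)
    (hle : ⊤ ≤ (Opens.map (jB j)).obj U) (t : M.obj.obj (op ((objU Y U).obj (lv 0)))) :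
    (TT j hj M hs).app ⦋0⦌ t = ((rP j).obj M).obj.map (objULe Y' hle (lv 0)).op
      (((rP j).obj M).obj.map (toObj j U (lv 0)).op (((aP j).unit.app M).hom.app (op ((objU Y U).obj (lv 0))) t)) :=
  Eq.trans (map_congr Y' ((rP j).obj M) (a := toMP j hj hs (lv 0)) (b := objULe Y' hle (lv 0) ≫ toObj j U (lv 0))
      (Category.id_comp (𝟙 (lv 0))).symm _)
    (map_map Y' ((rP j).obj M) _ _ _).symm

include hj in
/-- The direct image restricts to the fibre. -/
theorem isIso_base (M : Sheaf (JP Y) AddCommGrpCat.{u}) :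
    IsIso (DerivedCrit.base (SpaceCrit.adj Y) (SpaceCrit.adj Y') (nu j) M) := by
  have := hj.subsingleton
  let φ := DerivedCrit.base (SpaceCrit.adj Y) (SpaceCrit.adj Y') (nu j) M
  let p := TopCat.Sheaf.pullbackPushforwardAdjunction AddCommGrpCat.{u} (jB j)
  suffices ∀ b : base Y', IsIso ((TopCat.Presheaf.stalkFunctor AddCommGrpCat.{u} b).map φ.hom) from
    TopCat.Presheaf.isIso_of_stalkFunctor_map_iso (X := base Y') (C := AddCommGrpCat.{u})
      (F := (CohTop.pull (jB j)).obj ((SpaceCrit.push Y).obj M)) (G := (SpaceCrit.push Y').obj ((rP j).obj M)) φ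
  intro b
  rw [ConcreteCategory.isIso_iff_bijective]
  have hg := isPullUnit_unit (jB j) ((SpaceCrit.push Y).obj M)
  have hcomp : ∀ z, (TopCat.Presheaf.stalkFunctor AddCommGrpCat.{u} b).map φ.hom
      (stalkComp (jB j) (p.unit.app _) b z) = stalkComp (jB j) (bHat j M) b z := fun z => by
    obtain ⟨U, hU, t, rfl⟩ := exists_germ ((SpaceCrit.push Y).obj M) (jB j b) z
    erw [stalkComp_germ, stalkComp_germ, TopCat.Presheaf.stalkFunctor_map_germ_apply]
    refine congrArg (germ _ b hU) ?_
    have := p.homEquiv_unit _ _ φ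
    rw [show p.homEquiv _ _ φ = bHat j M from homEquiv_base j M] at this
    exact congr(($this).hom.app (op U) t).symm
  suffices Function.Bijective (stalkComp (jB j) (bHat j M) b) by
    refine Function.Bijective.of_comp_iff _ (hg b) |>.1 ?_
    exact Eq.mpr (congrArg Function.Bijective (funext hcomp)) this
  let N := (SpaceCrit.push Y').obj ((rP j).obj M)
  refine ⟨(injective_iff_map_eq_zero _).2 fun z hz => ?_, fun w => ?_⟩
  · obtain ⟨U, hU, t, rfl⟩ := exists_germ ((SpaceCrit.push Y).obj M) (jB j b) z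
    rw [stalkComp_germ] at hz
    have h0 : (bHat j M).hom.app (op U) t = 0 :=
      sect_ext N _ 0 fun x hx => by
        obtain rfl := Subsingleton.elim b x
        exact hz.trans (germ_zero N b hx).symm
    have hs : s ∈ U := (hj.point b) ▸ hU
    obtain ⟨V, hV, hsV, e⟩ := exists_vanish_TT j hj M hs ⦋0⦌ (proj Y M U t) (by
      rw [TT_eq j hj M hs (top_le (b := b) hU), ← proj_bHat, h0, map_zero, map_zero])
    have hbV : jB j b ∈ V := (hj.point b).symm ▸ hsV
    refine (germ_rs ((SpaceCrit.push Y).obj M) hV (jB j b) hbV t).symm.trans ?_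
    refine Eq.trans (congrArg (germ ((SpaceCrit.push Y).obj M) (jB j b) hbV) ?_) (germ_zero _ _ _)
    refine proj_injective M V ?_
    rw [map_zero]
    exact (proj_res Y M hV t).trans e
  · obtain ⟨W, hW, w, rfl⟩ := exists_germ N b w
    let w₀ : Sect N ⊤ := N.obj.map (le_hom (top_le (b := b) hW)).op w
    obtain ⟨U, hs, t, ht, e⟩ := exists_extend_cocycle j hj M 0 (proj Y' ((rP j).obj M) ⊤ w₀)
      ((isDesc_iff Y' _ _ _).1 (isDesc_proj _ _ w₀))
    obtain ⟨z, rfl⟩ := exists_of_isDesc M U t ((isDesc_iff Y M U t).2 ht)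
    have hU : jB j b ∈ U := (hj.point b).symm ▸ hs
    refine ⟨germ _ (jB j b) hU z, ?_⟩
    rw [stalkComp_germ]
    have e2 : N.obj.map (le_hom (top_le (b := b) (W := (Opens.map (jB j)).obj U) hU)).op ((bHat j M).hom.app (op U) z) = w₀ :=
      proj_injective _ _ ((proj_res Y' _ (top_le (b := b) (W := (Opens.map (jB j)).obj U) hU) _).trans (by
        rw [proj_bHat]
        exact (TT_eq j hj M hs _ _).symm.trans e))
    exact ((germ_rs N (top_le (b := b) (W := (Opens.map (jB j)).obj U) hU) b (Opens.mem_top b) _).symm.trans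
      (congrArg (germ N b (Opens.mem_top b)) e2)).trans (germ_rs N (top_le (b := b) hW) b (Opens.mem_top b) w)

end Groth.L10.Proper
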