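import Groth.Agent.L10.Proper.PointBC
import Groth.Agent.L00.RDerLES
import Groth.Agent.L17.AcyclicMap

/-! Descent of an augmented family from its fibres. -/

universe u

open CategoryTheory CategoryTheory.Limits Opposite Simplicial TopologicalSpace AlgebraicTopology
open Pseudofunctor.CoGrothendieck
open Groth.L09.SpaceSite Groth.L09

set_option backward.defeqAttrib.useBackward true
set_option backward.isDefEq.respectTransparency false
set_option backward.isDefEq.respectTransparency.types false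
set_option autoImplicit false
namespace Groth.L10.Proper

open Groth.L10.Descent (Tot toBot pre inP)

variable {Y' Y : (WithInitial SimplexCategory)ᵒᵖ ⥤ TopCat.{u}}

section Class

variable (Y')

/-- Soft levels and exact sections. -/
def IsGood (M : Sheaf (JP Y') AddCommGrpCat.{u}) : Prop :=
  (∀ i, IsSoft ((lev' Y' i).obj M)) ∧ CoExact Y' ⊤ M

theorem lev'_shortExact (i : SimplexCategoryᵒᵖ) {S : ShortComplex (Sheaf (JP Y') AddCommGrpCat.{u})}
    (hS : S.ShortExact) : (S.map (lev' Y' i)).ShortExact :=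
  have h1 := (inP Y' i).sheafAdjunctionContinuous AddCommGrpCat.{u}
    (Opens.grothendieckTopology (Y'.obj ((FibDesc.toAug SimplexCategory).obj i))) (JP Y')
  have h2 := (inP Y' i).sheafAdjunctionCocontinuous AddCommGrpCat.{u}
    (Opens.grothendieckTopology (Y'.obj ((FibDesc.toAug SimplexCategory).obj i))) (JP Y')
  have : PreservesFiniteLimits (lev' Y' i) :=
    have : PreservesLimitsOfSize.{0, 0} (lev' Y' i) := h1.rightAdjoint_preservesLimits
    PreservesLimitsOfSize.preservesFiniteLimits _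
  have : PreservesFiniteColimits (lev' Y' i) :=
    have : PreservesColimitsOfSize.{0, 0} (lev' Y' i) := h2.leftAdjoint_preservesColimits
    PreservesColimitsOfSize.preservesFiniteColimits _
  hS.map_of_exact _

variable (hc : ∀ i : SimplexCategoryᵒᵖ, CompactSpace (Y'.obj ((FibDesc.toAug SimplexCategory).obj i)))
  (ht : ∀ i : SimplexCategoryᵒᵖ, T2Space (Y'.obj ((FibDesc.toAug SimplexCategory).obj i)))

include hc ht in
theorem isGood_injective (M : Sheaf (JP Y') AddCommGrpCat.{u}) [Injective M] : IsGood Y' M :=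
  ⟨fun i =>
    have := hc i
    have := ht i
    have : Injective ((lev' Y' i).obj M) :=
      MultiFlat.injective_restrict (inP Y' i) _ (JP Y') (Descent.isMultiFlat_inP Y' i) M
    have := TopCoh.isFlasque_of_injective (X := Y'.obj ((FibDesc.toAug SimplexCategory).obj i)) ((lev' Y' i).obj M)
    isSoft_of_flasque _,
   coExact_of_injective Y' ⊤ M⟩

include hc ht in
theorem surjective_level {S : ShortComplex (Sheaf (JP Y') AddCommGrpCat.{u})} (hS : S.ShortExact)
    (h₁ : IsGood Y' S.X₁) (i : SimplexCategoryᵒᵖ) :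
    Function.Surjective (S.g.hom.app (op ((objU Y' ⊤).obj i))) :=
  have := hc i
  have := ht i
  surjective_top (lev'_shortExact Y' i hS) (h₁.1 i)

theorem exact_level {S : ShortComplex (Sheaf (JP Y') AddCommGrpCat.{u})} (hS : S.ShortExact) (i : SimplexCategoryᵒᵖ)
    (x : S.X₂.obj.obj (op ((objU Y' ⊤).obj i))) (hx : S.g.hom.app (op ((objU Y' ⊤).obj i)) x = 0) :
    ∃ m, S.f.hom.app (op ((objU Y' ⊤).obj i)) m = x :=
  TopCat.Sheaf.sections_exact_of_left_exact (lev'_shortExact Y' i hS).1 (lev'_shortExact Y' i hS).2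
    (U := (⊤ : Opens (Y'.obj ((FibDesc.toAug SimplexCategory).obj i)))) x hx

theorem injective_level {S : ShortComplex (Sheaf (JP Y') AddCommGrpCat.{u})} (hS : S.ShortExact) (X : Tot Y') :
    Function.Injective (S.f.hom.app (op X)) := by
  have := hS.mono_f
  have : Mono ((sheafToPresheaf _ _).map S.f) := inferInstance
  exact (AddCommGrpCat.mono_iff_injective _).1 ((NatTrans.mono_iff_mono_app _).1 this (op X))

include hc ht in
/-- A cocycle of a quotient lifts to a cocycle. -/
theorem exists_lift_cocycle {S : ShortComplex (Sheaf (JP Y') AddCommGrpCat.{u})} (hS : S.ShortExact)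
    (h₁ : IsGood Y' S.X₁) (n : ℕ) (w : S.X₃.obj.obj (op ((objU Y' ⊤).obj (lv n)))) (hw : dd Y' ⊤ S.X₃ n w = 0) :
    ∃ x : S.X₂.obj.obj (op ((objU Y' ⊤).obj (lv n))),
      dd Y' ⊤ S.X₂ n x = 0 ∧ S.g.hom.app (op ((objU Y' ⊤).obj (lv n))) x = w := by
  obtain ⟨x, hx⟩ := surjective_level Y' hc ht hS h₁ (lv n) w
  obtain ⟨m, hm⟩ := exact_level Y' hS (lv (n + 1)) (dd Y' ⊤ S.X₂ n x)
    ((dd_natural Y' ⊤ S.g n x).trans ((congrArg _ hx).trans hw))
  have hdm : dd Y' ⊤ S.X₁ (n + 1) m = 0 := by
    refine injective_level Y' hS _ ?_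
    rw [map_zero]
    exact (dd_natural Y' ⊤ S.f (n + 1) m).trans ((congrArg _ hm).trans (dd_dd Y' ⊤ S.X₂ n x))
  obtain ⟨m', rfl⟩ := h₁.2 n m hdm
  refine ⟨x - S.f.hom.app (op ((objU Y' ⊤).obj (lv n))) m', ?_, ?_⟩
  · rw [map_sub, ← dd_natural, hm, sub_self]
  · have hz : S.g.hom.app (op ((objU Y' ⊤).obj (lv n))) (S.f.hom.app (op ((objU Y' ⊤).obj (lv n))) m') = 0 :=
      congr(($(S.zero)).hom.app (op ((objU Y' ⊤).obj (lv n))) m')
    rw [map_sub, hz, sub_zero, hx]

include hc ht in
theorem isGood_quotient {S : ShortComplex (Sheaf (JP Y') AddCommGrpCat.{u})} (hS : S.ShortExact)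
    (h₁ : IsGood Y' S.X₁) (h₂ : IsGood Y' S.X₂) : IsGood Y' S.X₃ :=
  ⟨fun i =>
    have := hc i
    have := ht i
    isSoft_quotient (lev'_shortExact Y' i hS) (h₁.1 i) (h₂.1 i),
   fun n w hw => by
    obtain ⟨x, hx, rfl⟩ := exists_lift_cocycle Y' hc ht hS h₁ (n + 1) w hw
    obtain ⟨y, rfl⟩ := h₂.2 n x hx
    exact ⟨S.g.hom.app (op ((objU Y' ⊤).obj (lv n))) y, (dd_natural Y' ⊤ S.g n y).symm⟩⟩

include hc ht in
theorem epi_push [Subsingleton (base Y')] {S : ShortComplex (Sheaf (JP Y') AddCommGrpCat.{u})}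
    (hS : S.ShortExact) (h₁ : IsGood Y' S.X₁) : Epi ((SpaceCrit.push Y').map S.g) := by
  have htop : Function.Surjective (((SpaceCrit.push Y').map S.g).hom.app (op (⊤ : Opens (base Y')))) := fun w => by
    obtain ⟨x, hx, e⟩ := exists_lift_cocycle Y' hc ht hS h₁ 0 (proj Y' S.X₃ ⊤ w) ((isDesc_iff Y' _ _ _).1 (isDesc_proj _ _ w))
    obtain ⟨z, rfl⟩ := exists_of_isDesc S.X₂ ⊤ x ((isDesc_iff Y' S.X₂ ⊤ x).2 hx)
    exact ⟨z, proj_injective _ _ ((proj_natural Y' S.g ⊤ z).trans e)⟩
  let A := (SpaceCrit.push Y').obj S.X₂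
  let B := (SpaceCrit.push Y').obj S.X₃
  let φ : A ⟶ B := (SpaceCrit.push Y').map S.g
  have : TopCat.Presheaf.IsLocallySurjective φ.hom := by
    refine ⟨fun {U} t b hb => ⟨U, 𝟙 U, ?_, hb⟩⟩
    have hU : U = ⊤ := top_le_iff.1 (top_le (B := base Y') hb)
    subst hU
    obtain ⟨z, hz⟩ := htop t
    exact ⟨z, hz.trans (ConcreteCategory.congr_hom (B.obj.map_id _) t).symm⟩
  exact (Sheaf.isLocallySurjective_iff_epi' AddCommGrpCat.{u} φ).1 this

include hc ht in
theorem rAcyclic_of_isGood [Subsingleton (base Y')] (M : Sheaf (JP Y') AddCommGrpCat.{u}) (hM : IsGood Y' M) :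
    L17.GrothSS.RAcyclic (SpaceCrit.push Y') M := by
  let _ := HasDerivedCategory.standard (Sheaf (JP Y') AddCommGrpCat.{u})
  suffices ∀ (q : ℕ) (M : Sheaf (JP Y') AddCommGrpCat.{u}), IsGood Y' M →
      IsZero (((SpaceCrit.push Y').rightDerived (q + 1)).obj M) from fun q hq => by
    obtain ⟨q, rfl⟩ := Nat.exists_eq_succ_of_ne_zero hq.ne'
    exact this q M hM
  intro q
  induction q with
  | zero =>
    intro M hM
    have hS := SiteCoh.hull_shortExact M
    have := epi_push Y' hc ht hS hM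
    have : PreservesLimitsOfSize.{0, 0} (SpaceCrit.push Y') := (SpaceCrit.adj Y').rightAdjoint_preservesLimits
    have : PreservesFiniteLimits (SpaceCrit.push Y') := PreservesLimitsOfSize.preservesFiniteLimits _
    have : Epi (((SpaceCrit.push Y').rightDerived 0).map (SiteCoh.hull M).g) := by
      have h := (SpaceCrit.push Y').rightDerivedZeroIsoSelf.hom.naturality (SiteCoh.hull M).g
      rw [← IsIso.eq_comp_inv] at h
      rw [h]
      infer_instance
    exact L00.RDerLES.isZero_X₁ (SpaceCrit.push Y') hS 0 ((SpaceCrit.push Y').isZero_rightDerived_obj_injective_succ 0 _)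
  | succ q ih =>
    intro M hM
    have hS := SiteCoh.hull_shortExact M
    have hz := ih _ (isGood_quotient Y' hc ht hS hM (isGood_injective Y' hc ht _))
    have : Epi (((SpaceCrit.push Y').rightDerived (q + 1)).map (SiteCoh.hull M).g) := ⟨fun _ _ _ => hz.eq_of_src _ _⟩
    exact L00.RDerLES.isZero_X₁ (SpaceCrit.push Y') hS (q + 1) ((SpaceCrit.push Y').isZero_rightDerived_obj_injective_succ _ _)

end Class

theorem IsFibre.t2 {j : Y' ⟶ Y} {s : base Y} (hj : IsFibre j s) (i : SimplexCategoryᵒᵖ) :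
    T2Space (Y'.obj ((FibDesc.toAug SimplexCategory).obj i)) := ⟨fun k k' h => by
  obtain ⟨U, U', hU, hU', h₁, h₂, hd⟩ := hj.sep i k k' h
  exact ⟨jP j i ⁻¹' U, jP j i ⁻¹' U', hU.preimage (jP j i).hom.continuous, hU'.preimage (jP j i).hom.continuous, h₁, h₂,
    hd.preimage _⟩⟩

/-- Inverse images of injectives to the fibre are acyclic. -/
theorem rAcyclic_rP {j : Y' ⟶ Y} {s : base Y} (hj : IsFibre j s) (M : Sheaf (JP Y) AddCommGrpCat.{u}) [Injective M] :
    L17.GrothSS.RAcyclic (SpaceCrit.push Y') ((rP j).obj M) :=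
  have := hj.subsingleton
  rAcyclic_of_isGood Y' hj.compact hj.t2 _
    ⟨fun i =>
      have := hj.compact i
      have : Injective ((lev' Y i).obj M) :=
        MultiFlat.injective_restrict (inP Y i) _ (JP Y) (Descent.isMultiFlat_inP Y i) M
      have := TopCoh.isFlasque_of_injective (X := Y.obj ((FibDesc.toAug SimplexCategory).obj i)) ((lev' Y i).obj M)
      isSoft_of_pullUnit (G := (lev' Y i).obj M) (isPullUnit_levUnit j M i) (hj.sep i),
     coExact_rP j hj M fun U => coExact_of_injective Y U M⟩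

set_option maxHeartbeats 1200000 in
/-- Descent from descent of the fibres. -/
theorem computes_of_fibres (h : ∀ s : base Y, ∃ (Y' : (WithInitial SimplexCategory)ᵒᵖ ⥤ TopCat.{u}) (j : Y' ⟶ Y),
    IsFibre j s ∧ DerivedCrit.Computes (SpaceCrit.adj Y')) : DerivedCrit.Computes (SpaceCrit.adj Y) := by
  choose Z j hj hc using h
  intro n L _ J _ _ e _
  have : ∀ s, PreservesFiniteLimits (CohTop.pull (jB (j s))) := fun s => (pull_exact _).2.1
  have : ∀ s, PreservesFiniteColimits (CohTop.pull (jB (j s))) := fun s => (pull_exact _).2.2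
  have : ∀ s, (CohTop.pull (jB (j s))).Additive := fun s => (pull_exact _).1
  refine DerivedCrit.quasiIso_of_jointly (fun s => CohTop.pull (jB (j s))) (fun {A B} φ hφ => ?_) _ fun s => ?_
  · suffices ∀ y : base Y, IsIso ((TopCat.Presheaf.stalkFunctor AddCommGrpCat.{u} y).map φ.hom) from
      TopCat.Presheaf.isIso_of_stalkFunctor_map_iso (X := base Y) (C := AddCommGrpCat.{u}) (F := A) (G := B) φ
    intro s
    obtain ⟨b⟩ := (hj s).nonempty
    rw [← (hj s).point b, ConcreteCategory.isIso_iff_bijective]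
    let p := TopCat.Sheaf.pullbackPushforwardAdjunction AddCommGrpCat.{u} (jB (j s))
    have := hφ s
    have hb : Function.Bijective ((TopCat.Presheaf.stalkFunctor AddCommGrpCat.{u} b).map ((CohTop.pull (jB (j s))).map φ).hom) :=
      (ConcreteCategory.isIso_iff_bijective _).1 inferInstance
    have hsq : ∀ z, (TopCat.Presheaf.stalkFunctor AddCommGrpCat.{u} b).map ((CohTop.pull (jB (j s))).map φ).hom
        (stalkComp (jB (j s)) (p.unit.app A) b z) = stalkComp (jB (j s)) (p.unit.app B) b
          ((TopCat.Presheaf.stalkFunctor AddCommGrpCat.{u} (jB (j s) b)).map φ.hom z) := fun z => by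
      obtain ⟨U, hU, t, rfl⟩ := exists_germ A (jB (j s) b) z
      erw [stalkComp_germ, TopCat.Presheaf.stalkFunctor_map_germ_apply, TopCat.Presheaf.stalkFunctor_map_germ_apply,
        stalkComp_germ]
      exact congrArg (germ _ b hU) congr(($(p.unit.naturality φ)).hom.app (op U) t).symm
    refine (Function.Bijective.of_comp_iff' (isPullUnit_unit (jB (j s)) B b) _).1 ?_
    exact Eq.mpr (congrArg Function.Bijective (funext fun z => (hsq z).symm))
      (hb.comp (isPullUnit_unit (jB (j s)) A b))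
  · let _ := HasDerivedCategory.standard (Sheaf (JP (Z s)) AddCommGrpCat.{u})
    have : (rP (j s)).Additive := Functor.additive_of_preserves_binary_products _
    have : PreservesFiniteColimits (rP (j s)) :=
      have : PreservesColimitsOfSize.{0, 0} (rP (j s)) := (aP (j s)).leftAdjoint_preservesColimits
      PreservesColimitsOfSize.preservesFiniteColimits _
    let rB := CohTop.pull (jB (j s))
    let R' := SpaceCrit.push (Z s)
    let adj' := SpaceCrit.adj (Z s)
    let rL := (rB.mapHomologicalComplex (ComplexShape.up ℤ)).obj L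
    let rJ : CochainComplex (Sheaf (JP (Z s)) AddCommGrpCat.{u}) ℤ := ((rP (j s)).mapHomologicalComplex (ComplexShape.up ℤ)).obj J
    let a : ((SpaceCrit.pull (Z s)).mapHomologicalComplex _).obj rL ⟶
        ((rP (j s)).mapHomologicalComplex (ComplexShape.up ℤ)).obj (((SpaceCrit.pull Y).mapHomologicalComplex _).obj L) :=
      { f := fun i => (nu (j s)).app (L.X i)
        comm' := fun i k _ => ((nu (j s)).naturality (L.d i k)).symm }
    have : ∀ i, IsIso (a.f i) := fun i => inferInstanceAs (IsIso ((nu (j s)).app (L.X i)))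
    have : IsIso a := HomologicalComplex.Hom.isIso_of_components _
    let e' : ((SpaceCrit.pull (Z s)).mapHomologicalComplex _).obj rL ⟶ rJ :=
      a ≫ ((rP (j s)).mapHomologicalComplex _).map e
    have : QuasiIso e' := inferInstanceAs (QuasiIso (a ≫ ((rP (j s)).mapHomologicalComplex _).map e))
    let c : (rB.mapHomologicalComplex (ComplexShape.up ℤ)).obj (((SpaceCrit.push Y).mapHomologicalComplex _).obj J) ⟶
        (R'.mapHomologicalComplex _).obj rJ :=
      { f := fun i => DerivedCrit.base (SpaceCrit.adj Y) adj' (nu (j s)) (J.X i)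
        comm' := fun i k _ => (DerivedCrit.base_natural (SpaceCrit.adj Y) adj' (nu (j s)) (J.d i k)).symm }
    have : ∀ i, IsIso (c.f i) := fun i => isIso_base (j s) (hj s) (J.X i)
    have : IsIso c := HomologicalComplex.Hom.isIso_of_components _
    have key : (rB.mapHomologicalComplex (ComplexShape.up ℤ)).map (DerivedCrit.tr (SpaceCrit.adj Y) e) ≫ c =
        DerivedCrit.tr adj' e' := by
      refine HomologicalComplex.hom_ext _ _ fun i => ?_
      exact DerivedCrit.base_tr (SpaceCrit.adj Y) adj' (nu (j s)) (L.X i) (J.X i) (e.f i)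
    rw [← quasiIso_iff_comp_right _ c, key]
    have : rJ.IsStrictlyGE n := inferInstance
    obtain ⟨⟨J₀, _⟩, hJ, ⟨ψ⟩, hψ⟩ := CochainComplex.Plus.exists_quasiIso_injective
      (C := Sheaf (JP (Z s)) AddCommGrpCat.{u}) ⟨rJ, ⟨n, inferInstance⟩⟩ n
    let J' : CochainComplex (Sheaf (JP (Z s)) AddCommGrpCat.{u}) ℤ :=
      ((InjectiveObject.ι _).mapHomologicalComplex (ComplexShape.up ℤ)).obj J₀
    have : ∀ k, Injective (J'.X k) := fun k => (J₀.X k).property
    have : J'.IsStrictlyGE n := inferInstance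
    let ψ' : rJ ⟶ J' := ψ
    have : QuasiIso ψ' := hψ
    have : PreservesLimitsOfSize.{0, 0} R' := adj'.rightAdjoint_preservesLimits
    have : PreservesFiniteLimits R' := PreservesLimitsOfSize.preservesFiniteLimits _
    have : QuasiIso ((R'.mapHomologicalComplex (.up ℤ)).map ψ') := L17.GrothSS.quasiIso_map R' ψ' n n
      (fun k => rAcyclic_rP (hj s) (J.X k))
      (fun k q hq => by
        obtain ⟨q, rfl⟩ := Nat.exists_eq_succ_of_ne_zero hq.ne'
        exact R'.isZero_rightDerived_obj_injective_succ q _)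
    have h' := hc s n rL J' (e' ≫ ψ')
    have : DerivedCrit.tr adj' (e' ≫ ψ') = DerivedCrit.tr adj' e' ≫ (R'.mapHomologicalComplex (.up ℤ)).map ψ' := by
      rw [DerivedCrit.tr, DerivedCrit.tr, Functor.map_comp, Category.assoc]
    rw [this] at h'
    exact (quasiIso_iff_comp_right _ _).1 h'

end Groth.L10.Proper
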