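import Groth.Agent.L10.Proper.Near
import Groth.Agent.L10.TopCoh
import Mathlib.Topology.Separation.Profinite

/-! Cohomology on profinite spaces, flasque sheaves on discrete and irreducible spaces. -/

universe u

open CategoryTheory CategoryTheory.Limits Opposite TopologicalSpace Topology CategoryTheory.Abelian

set_option backward.defeqAttrib.useBackward true
set_option backward.isDefEq.respectTransparency false
set_option autoImplicit false
namespace Groth.L10.Proper

variable {X : TopCat.{u}}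

theorem surjective_top_of_profinite [CompactSpace X] [T2Space X] [TotallyDisconnectedSpace X]
    {S : ShortComplex (CohTop.Ab X)} (hS : S.ShortExact) : Function.Surjective (S.g.hom.app (op ⊤)) := fun w => by
  have := hS.epi_g
  let P : Set X → Prop := fun s => ∃ (O : Opens X) (t : Sect S.X₂ O), IsClosed (O : Set X) ∧ s ⊆ O ∧
    S.g.hom.app (op O) t = rs S.X₃ le_top w
  have h := (isCompact_univ (X := X)).induction_on (p := P) ⟨⊥, 0, isClosed_empty, fun a ha => ha.elim,
      sect_ext _ _ _ fun x hx => hx.elim⟩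
    (fun s t hst ⟨O, x, hO, hsub, e⟩ => ⟨O, x, hO, hst.trans hsub, e⟩) ?_ ?_
  · obtain ⟨O, t, -, hsub, e⟩ := h
    obtain rfl : O = ⊤ := top_le_iff.1 fun x _ => hsub (Set.mem_univ x)
    exact ⟨t, e.trans (ConcreteCategory.congr_hom (S.X₃.obj.map_id _) w)⟩
  · rintro s t ⟨O₁, t₁, c₁, h₁, e₁⟩ ⟨O₂, t₂, c₂, h₂, e₂⟩
    let O₂' : Opens X := ⟨(O₂ : Set X) ∩ (O₁ : Set X)ᶜ, O₂.isOpen.inter c₁.isOpen_compl⟩
    have hle : O₂' ≤ O₂ := fun x hx => hx.1
    obtain ⟨g, hg₁, hg₂⟩ := exists_glue S.X₂ t₁ (rs S.X₂ hle t₂) (fun x hx₁ hx₂ => (hx₂.2 hx₁).elim)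
    refine ⟨O₁ ⊔ O₂', g, c₁.union (c₂.inter c₁.isOpen_compl.isClosed_compl |> fun _ => ?_), ?_, sect_ext _ _ _ fun x hx => ?_⟩
    · exact c₂.inter (isClosed_compl_iff.2 O₁.isOpen)
    · rintro x (hx | hx)
      · exact Or.inl (h₁ hx)
      · by_cases h : x ∈ O₁
        · exact Or.inl h
        · exact Or.inr ⟨h₂ hx, h⟩
    · have hnat : ∀ {V : Opens X} (y : X) (hy : y ∈ V) (q : Sect S.X₂ V), germ S.X₃ y hy (S.g.hom.app (op V) q) =
          (TopCat.Presheaf.stalkFunctor AddCommGrpCat.{u} y).map S.g.hom (germ S.X₂ y hy q) := fun {V} y hy q =>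
        (TopCat.Presheaf.stalkFunctor_map_germ_apply (C := AddCommGrpCat.{u}) (X := X) V y hy S.g.hom q).symm
      rcases hx with hx | hx
      · rw [hnat, hg₁ x hx, ← hnat, e₁, germ_rs, germ_rs]
      · rw [hnat, hg₂ x hx, germ_rs, ← hnat, e₂, germ_rs, germ_rs]
  · intro a _
    obtain ⟨R, hR⟩ := SiteCoh.locally_surjective_of_epi (J := Opens.grothendieckTopology X) S.g w
    obtain ⟨W, ι, hι, haW⟩ := R.2 a trivial
    obtain ⟨t, ht⟩ := hR ⟨W, ι, hι⟩
    obtain ⟨C, hC, haC, hCW⟩ := compact_exists_isClopen_in_isOpen W.isOpen haW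
    have hle : (⟨C, hC.isOpen⟩ : Opens X) ≤ W := hCW
    refine ⟨C, nhdsWithin_le_nhds (hC.isOpen.mem_nhds haC), ⟨C, hC.isOpen⟩, rs S.X₂ hle t, hC.isClosed, subset_rfl, ?_⟩
    refine (NatTrans.naturality_apply S.g.hom (homOfLE hle).op t).trans ?_
    refine (congrArg (S.X₃.obj.map (homOfLE hle).op) ht).trans ?_
    exact (ConcreteCategory.congr_hom (S.X₃.obj.map_comp _ _) w).symm

/-- Abelian sheaves on profinite spaces are acyclic. -/
theorem subsingleton_H_of_profinite [CompactSpace X] [T2Space X] [TotallyDisconnectedSpace X] (F : CohTop.Ab X)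
    (p : ℕ) : Subsingleton (CohTop.H F (p + 1)) :=
  have := SiteCoh.subsingleton_of_class (J := Opens.grothendieckTopology X) (fun _ => True) ⊤
    (fun _ hS _ => surjective_top_of_profinite hS) (fun _ _ _ _ => trivial) F trivial p
  (SiteCoh.hEquiv (TopCoh.topTerminal X) F (p + 1)).toEquiv.subsingleton

/-- Sheaves on discrete spaces are flasque. -/
theorem isFlasque_of_discrete [DiscreteTopology X] (M : CohTop.Ab X) : TopCat.Sheaf.IsFlasque M :=
  ⟨fun {U V} i => (AddCommGrpCat.epi_iff_surjective _).2 fun t => by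
    let W : Opens X := ⟨(U.unop : Set X) \ (V.unop : Set X), isOpen_discrete _⟩
    have hle : U.unop ≤ V.unop ⊔ W := fun x hx => (em (x ∈ V.unop)).imp id fun h => ⟨hx, h⟩
    obtain ⟨g, hg, -⟩ := exists_glue M t (0 : Sect M W) (fun x h₁ h₂ => (h₂.2 h₁).elim)
    refine ⟨rs M hle g, sect_ext M (U := V.unop) _ _ fun x hx => ?_⟩
    exact (germ_rs M i.unop.le x hx _).trans ((germ_rs M hle x _ g).trans (hg x hx))⟩

theorem mono_unit (j : TopCat.discrete.obj (X : Type u) ⟶ X) (hj : Function.Surjective j) (F : CohTop.Ab X) :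
    Mono ((TopCat.Sheaf.pullbackPushforwardAdjunction AddCommGrpCat.{u} j).unit.app F) := by
  have hu := isPullUnit_unit j F
  have : Mono ((sheafToPresheaf _ _).map ((TopCat.Sheaf.pullbackPushforwardAdjunction AddCommGrpCat.{u} j).unit.app F)) := by
    refine @NatTrans.mono_of_mono_app _ _ _ _ _ _ _ fun U => ?_
    rw [AddCommGrpCat.mono_iff_injective]
    refine (injective_iff_map_eq_zero _).2 fun t ht => sect_ext F (U := U.unop) t 0 fun x hx => ?_
    obtain ⟨k, rfl⟩ := hj x
    apply (hu k).1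
    refine (stalkComp_germ j _ k U.unop hx t).trans ?_
    refine ((congrArg _ ht).trans (map_zero _)).trans ?_
    exact ((congrArg _ (germ_zero F (U := U.unop) (j k) hx)).trans (map_zero _)).symm
  exact Functor.mono_of_mono_map (sheafToPresheaf _ _) this

/-- The first step of the Godement resolution. -/
theorem godement_first (F : CohTop.Ab X) :
    Mono ((TopCat.Sheaf.pullbackPushforwardAdjunction AddCommGrpCat.{u} (TopCat.adj₁.counit.app X)).unit.app F) ∧
    TopCat.Sheaf.IsFlasque ((CohTop.push (TopCat.adj₁.counit.app X)).obj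
      ((CohTop.pull (TopCat.adj₁.counit.app X)).obj F)) := by
  refine ⟨mono_unit (TopCat.adj₁.counit.app X) (fun x => ⟨x, rfl⟩) F, ⟨fun {U V} i => ?_⟩⟩
  have : DiscreteTopology ((forget TopCat.{u} ⋙ TopCat.discrete).obj X) := ⟨rfl⟩
  exact (isFlasque_of_discrete ((CohTop.pull (TopCat.adj₁.counit.app X)).obj F)).epi
    ((Opens.map (TopCat.adj₁.counit.app X)).op.map i)

theorem constPre_germ_injective (A : Type u) [AddCommGroup A] {U : Opens X} (x : X) (hx : x ∈ U) :
    Function.Injective fun a : A => germ (CohTop.const X A) x hx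
      ((toSheafify (Opens.grothendieckTopology X) ((Functor.const _).obj (AddCommGrpCat.of A))).app (op U) a) := by
  let P : TopCat.Presheaf AddCommGrpCat.{u} X := (Functor.const _).obj (AddCommGrpCat.of A)
  let η : P ⟶ (CohTop.const X A).obj := toSheafify (Opens.grothendieckTopology X) P
  have h : IsIso ((TopCat.Presheaf.stalkFunctor AddCommGrpCat.{u} x).map η) :=
    TopCat.Presheaf.stalkFunctor_map_unit_toSheafify_isIso x AddCommGrpCat.{u} P
  intro a b e
  have e' : TopCat.Presheaf.germ (C := AddCommGrpCat.{u}) (X := X) P U x hx a =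
      TopCat.Presheaf.germ (C := AddCommGrpCat.{u}) (X := X) P U x hx b := by
    refine (ConcreteCategory.bijective_of_isIso ((TopCat.Presheaf.stalkFunctor AddCommGrpCat.{u} x).map η)).1 ?_
    exact (TopCat.Presheaf.stalkFunctor_map_germ_apply (C := AddCommGrpCat.{u}) (X := X) U x hx η a).trans
      (Eq.trans e (TopCat.Presheaf.stalkFunctor_map_germ_apply (C := AddCommGrpCat.{u}) (X := X) U x hx η b).symm)
  obtain ⟨W, hW, i₁, i₂, h'⟩ := TopCat.Presheaf.germ_eq (C := AddCommGrpCat.{u}) (X := X) P x hx hx a b e'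
  exact h'

/-- Constant sheaves on irreducible spaces are flasque. -/
theorem isFlasque_const [IrreducibleSpace X] (A : Type u) [AddCommGroup A] :
    TopCat.Sheaf.IsFlasque (CohTop.const X A) :=
  ⟨fun {U V} i => (AddCommGrpCat.epi_iff_surjective _).2 fun t => by
    let J := Opens.grothendieckTopology X
    let P : (Opens X)ᵒᵖ ⥤ AddCommGrpCat.{u} := (Functor.const _).obj (AddCommGrpCat.of A)
    let M := CohTop.const X A
    let c : ∀ W : Opens X, A → Sect M W := fun W a => (toSheafify J P).app (op W) a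
    have hc : ∀ (W W' : Opens X) (h : W' ≤ W) (a : A), rs M h (c W a) = c W' a := fun W W' h a =>
      (NatTrans.naturality_apply (toSheafify J P) (homOfLE h).op a).symm
    by_cases hV : ∀ x, x ∉ V.unop
    · exact ⟨0, sect_ext M (U := V.unop) _ _ fun x hx => (hV x hx).elim⟩
    · push Not at hV
      obtain ⟨x₀, hx₀⟩ := hV
      have hloc : ∀ x, x ∈ V.unop → ∃ (W : Opens X) (hW : W ≤ V.unop) (a : A), x ∈ W ∧ c W a = rs M hW t :=
        fun x hx => by
          have : Presheaf.IsLocallySurjective J (toSheafify J P) := inferInstance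
          obtain ⟨W, f, ⟨a, ha⟩, hxW⟩ := Presheaf.imageSieve_mem J (toSheafify J P) t x hx
          exact ⟨W, f.le, a, hxW, ha⟩
      obtain ⟨W₀, hW₀, a, hx₀W, ha⟩ := hloc x₀ hx₀
      refine ⟨c U.unop a, (hc _ _ i.unop.le a).trans (sect_ext M (U := V.unop) _ _ fun x hx => ?_)⟩
      obtain ⟨W, hW, b, hxW, hb⟩ := hloc x hx
      obtain ⟨y, hyW, hy₀⟩ := nonempty_preirreducible_inter W.isOpen W₀.isOpen ⟨x, hxW⟩ ⟨x₀, hx₀W⟩
      obtain rfl : b = a := constPre_germ_injective A y (show y ∈ V.unop from hW hyW) (by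
        show germ M y (hW hyW) (c V.unop b) = germ M y (hW hyW) (c V.unop a)
        rw [← germ_rs M hW y hyW, hc, hb, germ_rs, ← germ_rs M hW₀ y hy₀ t, ← ha, ← hc V.unop W₀ hW₀ a, germ_rs])
      rw [← germ_rs M hW x hxW, hc, hb, germ_rs]⟩

theorem subsingleton_H_const [IrreducibleSpace X] (A : Type u) [AddCommGroup A] (p : ℕ) :
    Subsingleton (CohTop.H (CohTop.const X A) (p + 1)) :=
  TopCoh.subsingleton_H_of_flasque _ (isFlasque_const A) p

end Groth.L10.Proper
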