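import Groth.Agent.L10.Descent.SpaceSS
import Mathlib.Algebra.Category.Grp.ForgetCorepresentable

/-! The direct image of an augmented simplicial space as an equalizer. -/

universe u

open CategoryTheory CategoryTheory.Limits Opposite Simplicial TopologicalSpace
open Pseudofunctor.CoGrothendieck
open Groth.L09.SpaceSite Groth.L09

set_option backward.defeqAttrib.useBackward true
set_option backward.isDefEq.respectTransparency false
set_option backward.isDefEq.respectTransparency.types false
set_option autoImplicit false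
namespace Groth.L10.Proper

open Groth.L10.Descent (Tot toBot pre)

variable (Y : (WithInitial SimplexCategory)ᵒᵖ ⥤ TopCat.{u})

/-- The base space. -/
abbrev base : TopCat.{u} := Y.obj (FibDesc.bot SimplexCategory)

/-- The preimage of an open of the base in one level. -/
noncomputable abbrev preP (i : SimplexCategoryᵒᵖ) (U : Opens (base Y)) :
    Opens (Y.obj ((FibDesc.toAug SimplexCategory).obj i)) :=
  pre Y ((FibDesc.toAug SimplexCategory).obj i) U

theorem pre_map {i k : SimplexCategoryᵒᵖ} (h : i ⟶ k) (U : Opens (base Y)) :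
    preP Y i U ≤ (Opens.map (Y.map ((FibDesc.toAug SimplexCategory).map h))).obj (preP Y k U) := fun x hx => by
  show Y.map (toBot _) (Y.map ((FibDesc.toAug SimplexCategory).map h) x) ∈ U
  have := ConcreteCategory.congr_hom (Y.map_comp ((FibDesc.toAug SimplexCategory).map h) (toBot _)) x
  rw [(subsingleton_toBot _).elim ((FibDesc.toAug SimplexCategory).map h ≫ toBot _) (toBot _)] at this
  exact (this.symm.trans rfl) ▸ hx

/-- The preimages of an open of the base, as objects of the total category. -/
noncomputable def objU (U : Opens (base Y)) : SimplexCategoryᵒᵖ ⥤ Tot Y where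
  obj i := mkP i (preP Y i U)
  map h := homP h (pre_map Y h U)
  map_id _ := homP_ext rfl
  map_comp _ _ := homP_ext rfl

/-- Their functoriality in the open. -/
noncomputable def objULe {U V : Opens (base Y)} (h : V ≤ U) (i : SimplexCategoryᵒᵖ) :
    (objU Y V).obj i ⟶ (objU Y U).obj i :=
  homP (𝟙 i) (fun x hx => by
    show Y.map (toBot _) (Y.map ((FibDesc.toAug SimplexCategory).map (𝟙 i)) x) ∈ U
    rw [CategoryTheory.Functor.map_id, CategoryTheory.Functor.map_id]
    exact h hx)

theorem hom_eq {X Z : Tot Y} (a b : X ⟶ Z) (h : a.base = b.base) : a = b := homP_ext h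

theorem map_congr (M : Sheaf (JP Y) AddCommGrpCat.{u}) {X Z : Tot Y} {a b : X ⟶ Z} (h : a.base = b.base)
    (t : M.obj.obj (op Z)) : M.obj.map a.op t = M.obj.map b.op t := by
  rw [hom_eq Y a b h]

theorem map_map (M : Sheaf (JP Y) AddCommGrpCat.{u}) {X Z W : Tot Y} (a : X ⟶ Z) (b : Z ⟶ W)
    (t : M.obj.obj (op W)) : M.obj.map a.op (M.obj.map b.op t) = M.obj.map (a ≫ b).op t := by
  rw [op_comp, Functor.map_comp, ConcreteCategory.comp_apply]

/-- The structured arrow of a preimage. -/
noncomputable abbrev arr (U : Opens (base Y)) (i : SimplexCategoryᵒᵖ) :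
    StructuredArrow (op ((FibDesc.eps (FibDesc.topAug Y)).obj U)) (FibDesc.incl (FibDesc.topAug Y)).op :=
  StructuredArrow.mk (Y := op ((objU Y U).obj i))
    (hom (X := (FibDesc.incl (FibDesc.topAug Y)).obj ((objU Y U).obj i))
      (Z := (FibDesc.eps (FibDesc.topAug Y)).obj U) (toBot _) le_rfl).op

/-- The lowest level. -/
abbrev lv (n : ℕ) : SimplexCategoryᵒᵖ := op ⦋n⦌

/-- The projection of the direct image to the lowest level. -/
noncomputable def proj (M : Sheaf (JP Y) AddCommGrpCat.{u}) (U : Opens (base Y)) :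
    ((SpaceCrit.push Y).obj M).obj.obj (op U) ⟶ M.obj.obj (op ((objU Y U).obj (lv 0))) :=
  ((FibDesc.incl (FibDesc.topAug Y)).op.ran.obj M.obj).map (arr Y U (lv 0)).hom ≫
    ((FibDesc.incl (FibDesc.topAug Y)).op.ranCounit.app M.obj).app (op ((objU Y U).obj (lv 0)))

/-- Descent data in degree `0`. -/
def IsDesc (M : Sheaf (JP Y) AddCommGrpCat.{u}) (U : Opens (base Y)) (t : M.obj.obj (op ((objU Y U).obj (lv 0)))) : Prop :=
  M.obj.map ((objU Y U).map (SimplexCategory.δ (0 : Fin 2)).op).op t =
    M.obj.map ((objU Y U).map (SimplexCategory.δ (1 : Fin 2)).op).op t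

variable {Y}

theorem arrow_le {U : Opens (base Y)}
    (g : StructuredArrow (op ((FibDesc.eps (FibDesc.topAug Y)).obj U)) (FibDesc.incl (FibDesc.topAug Y)).op) :
    obP g.right.unop ≤ preP Y g.right.unop.base U := fun z hz => by
  have h := hom_le g.hom.unop hz
  rw [(subsingleton_toBot _).elim g.hom.unop.base (toBot _)] at h
  exact h

/-- The arrow to the lowest level given by a vertex. -/
noncomputable def vert {X : Tot Y} {U : Opens (base Y)} (h : obP X ≤ preP Y X.base U)
    (a : Fin (X.base.unop.len + 1)) : X ⟶ (objU Y U).obj (lv 0) :=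
  homP (SimplexCategory.const ⦋0⦌ X.base.unop a).op (h.trans (pre_map Y _ U))

theorem vert_arr {U : Opens (base Y)}
    (g : StructuredArrow (op ((FibDesc.eps (FibDesc.topAug Y)).obj U)) (FibDesc.incl (FibDesc.topAug Y)).op)
    (a : Fin (g.right.unop.base.unop.len + 1)) :
    (arr Y U (lv 0)).hom ≫ (FibDesc.incl (FibDesc.topAug Y)).op.map (vert (arrow_le g) a).op = g.hom :=
  Quiver.Hom.unop_inj (hom_ext ((subsingleton_toBot _).elim _ _))

/-- Descent data do not depend on the vertex. -/
theorem IsDesc.vert_eq {M : Sheaf (JP Y) AddCommGrpCat.{u}} {U : Opens (base Y)}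
    {t : M.obj.obj (op ((objU Y U).obj (lv 0)))} (ht : IsDesc Y M U t) {X : Tot Y} (h : obP X ≤ preP Y X.base U)
    (a b : Fin (X.base.unop.len + 1)) : M.obj.map (vert h a).op t = M.obj.map (vert h b).op t := by
  wlog hab : a ≤ b generalizing a b
  · exact (this b a (le_of_not_ge hab)).symm
  let e : X ⟶ (objU Y U).obj (lv 1) :=
    homP (SimplexCategory.mkOfLe (n := X.base.unop.len) a b hab).op (h.trans (pre_map Y _ U))
  have := congrArg (M.obj.map e.op) ht
  rw [map_map, map_map] at this
  refine ((map_congr Y M ?_ t).trans this.symm).trans (map_congr Y M ?_ t)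
  · refine Quiver.Hom.unop_inj (SimplexCategory.Hom.ext _ _ (OrderHom.ext _ _ (funext fun x => ?_)))
    obtain rfl : x = 0 := Subsingleton.elim (α := Fin 1) _ _
    rfl
  · refine Quiver.Hom.unop_inj (SimplexCategory.Hom.ext _ _ (OrderHom.ext _ _ (funext fun x => ?_)))
    obtain rfl : x = 0 := Subsingleton.elim (α := Fin 1) _ _
    rfl

theorem proj_map (M : Sheaf (JP Y) AddCommGrpCat.{u}) (U : Opens (base Y))
    (g : StructuredArrow (op ((FibDesc.eps (FibDesc.topAug Y)).obj U)) (FibDesc.incl (FibDesc.topAug Y)).op)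
    (a : Fin (g.right.unop.base.unop.len + 1)) (z : ((SpaceCrit.push Y).obj M).obj.obj (op U)) :
    ((FibDesc.incl (FibDesc.topAug Y)).op.ranCounit.app M.obj).app g.right
        (((FibDesc.incl (FibDesc.topAug Y)).op.ran.obj M.obj).map g.hom z) =
      M.obj.map (vert (arrow_le g) a).op (proj Y M U z) := by
  rw [← vert_arr g a, Functor.map_comp, ConcreteCategory.comp_apply]
  exact NatTrans.naturality_apply ((FibDesc.incl (FibDesc.topAug Y)).op.ranCounit.app M.obj)
    (vert (arrow_le g) a).op _

theorem proj_injective (M : Sheaf (JP Y) AddCommGrpCat.{u}) (U : Opens (base Y)) :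
    Function.Injective (proj Y M U) := fun z z' h => by
  refine Concrete.isLimit_ext _ ((FibDesc.incl (FibDesc.topAug Y)).op.isPointwiseRightKanExtensionRanCounit M.obj
    (op ((FibDesc.eps (FibDesc.topAug Y)).obj U))) z z' fun g => ?_
  exact (proj_map M U g 0 z).trans ((congrArg _ h).trans (proj_map M U g 0 z').symm)

theorem isDesc_proj (M : Sheaf (JP Y) AddCommGrpCat.{u}) (U : Opens (base Y))
    (z : ((SpaceCrit.push Y).obj M).obj.obj (op U)) : IsDesc Y M U (proj Y M U z) := by
  refine ((map_congr Y M ?_ _).trans ((proj_map M U (arr Y U (lv 1)) 1 z).symm.trans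
    (proj_map M U (arr Y U (lv 1)) 0 z))).trans (map_congr Y M ?_ _)
  · refine Quiver.Hom.unop_inj (SimplexCategory.Hom.ext _ _ (OrderHom.ext _ _ (funext fun x => ?_)))
    obtain rfl : x = 0 := Subsingleton.elim (α := Fin 1) _ _
    rfl
  · refine Quiver.Hom.unop_inj (SimplexCategory.Hom.ext _ _ (OrderHom.ext _ _ (funext fun x => ?_)))
    obtain rfl : x = 0 := Subsingleton.elim (α := Fin 1) _ _
    rfl

theorem exists_of_isDesc (M : Sheaf (JP Y) AddCommGrpCat.{u}) (U : Opens (base Y))
    (t : M.obj.obj (op ((objU Y U).obj (lv 0)))) (ht : IsDesc Y M U t) :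
    ∃ z, proj Y M U z = t := by
  let E := fun G : AddCommGrpCat.{u} =>
    (ConcreteCategory.homEquiv (C := AddCommGrpCat.{u}) (X := AddCommGrpCat.of (ULift.{u} ℤ)) (Y := G)).trans
      (uliftZMultiplesHom G).symm
  have hE : ∀ (G G' : AddCommGrpCat.{u}) (φ : G ⟶ G') (k : AddCommGrpCat.of (ULift.{u} ℤ) ⟶ G),
      E G' (k ≫ φ) = φ (E G k) := fun G G' φ k => rfl
  let c : Cone (StructuredArrow.proj (op ((FibDesc.eps (FibDesc.topAug Y)).obj U)) (FibDesc.incl (FibDesc.topAug Y)).op ⋙ M.obj) :=
    { pt := AddCommGrpCat.of (ULift.{u} ℤ)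
      π :=
        { app := fun g => (E _).symm (M.obj.map (vert (arrow_le g) 0).op t)
          naturality := fun g g' k => by
            apply (E _).injective
            refine Eq.trans ?_ (hE _ _ _ _).symm
            erw [Category.id_comp]
            erw [Equiv.apply_symm_apply, Equiv.apply_symm_apply]
            refine Eq.trans ?_ (map_map Y M k.right.unop _ t).symm
            refine (ht.vert_eq (arrow_le g') 0
              ((k.right.unop.base.unop).toOrderHom 0)).trans (map_congr Y M ?_ t)
            refine Quiver.Hom.unop_inj (SimplexCategory.Hom.ext _ _ (OrderHom.ext _ _ (funext fun x => ?_)))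
            rfl } }
  let hl := (FibDesc.incl (FibDesc.topAug Y)).op.isPointwiseRightKanExtensionRanCounit M.obj
    (op ((FibDesc.eps (FibDesc.topAug Y)).obj U))
  refine ⟨E _ (hl.lift c), ?_⟩
  refine ((hE _ _ _ _).symm.trans (congrArg (E _) (hl.fac c (arr Y U (lv 0))))).trans ?_
  refine (Equiv.apply_symm_apply _ _).trans ?_
  refine (map_congr Y M (b := 𝟙 _) ?_ t).trans ?_
  · refine Quiver.Hom.unop_inj (SimplexCategory.Hom.ext _ _ (OrderHom.ext _ _ (funext fun x => ?_)))
    exact Subsingleton.elim (α := Fin 1) _ _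
  · rw [op_id, CategoryTheory.Functor.map_id]
    rfl

end Groth.L10.Proper
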