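import Groth.Agent.L10.Proper.Soft
import Groth.Agent.L10.Proper.ExactComp
import Groth.Agent.L10.SiteRightDerived
import Mathlib.Topology.Sheaves.Abelian
import Mathlib.Topology.Maps.Proper.Basic

/-! Stalks of direct images along proper maps. -/

universe u

open CategoryTheory CategoryTheory.Limits Opposite TopologicalSpace Topology CategoryTheory.Abelian

set_option backward.defeqAttrib.useBackward true
set_option backward.isDefEq.respectTransparency false
set_option autoImplicit false
namespace Groth.L10.Proper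

variable {X Y K : TopCat.{u}} (f : X ⟶ Y) (y : Y) (j : K ⟶ X)

section Near

variable (hfK : ∀ k : K, f (j k) = y) (hf : IsClosedMap f) (hsurj : ∀ x : X, f x = y → ∃ k : K, j k = x)
  {G : CohTop.Ab X} {G' : CohTop.Ab K} {u : G ⟶ (CohTop.push j).obj G'} (hu : IsPullUnit j u)

include hf hsurj in
/-- A neighbourhood of the fibre contains a preimage of a neighbourhood. -/
theorem exists_preimage_le (O : Opens X) (hO : ∀ k : K, j k ∈ O) :
    ∃ U : Opens Y, y ∈ U ∧ (Opens.map f).obj U ≤ O := by
  refine ⟨⟨(f '' (O : Set X)ᶜ)ᶜ, (hf _ O.isOpen.isClosed_compl).isOpen_compl⟩, ?_, fun x hx => ?_⟩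
  · rintro ⟨x, hx, e⟩
    obtain ⟨k, rfl⟩ := hsurj x e
    exact hx (hO k)
  · by_contra h
    exact hx ⟨x, h, rfl⟩

include hfK hf hsurj hu in
/-- A section near the fibre vanishing on the fibre vanishes near it. -/
theorem exists_vanish {U : Opens Y} (hy : y ∈ U) (t : Sect G ((Opens.map f).obj U))
    (h : ∀ k : K, germ G' k (show f (j k) ∈ U from (hfK k).symm ▸ hy) (pl u _ t) = 0) :
    ∃ (W : Opens Y) (hW : W ≤ U), y ∈ W ∧ rs G ((Opens.map f).monotone hW) t = 0 := by
  obtain ⟨O, hO, h0, hmem⟩ := exists_nhbd_eq_zero hu t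
  obtain ⟨W, hyW, hW⟩ := exists_preimage_le f y j hf hsurj O (fun k => hmem k _ (h k))
  refine ⟨W ⊓ U, inf_le_right, ⟨hyW, hy⟩, sect_ext _ _ _ fun x hx => ?_⟩
  have := congrArg (germ G x (hW hx.1)) h0
  rw [germ_rs, germ_zero] at this
  rw [germ_rs, germ_zero]
  exact this

include hfK hf hsurj hu in
/-- Sections on the fibre extend to neighbourhoods. -/
theorem exists_extend [CompactSpace K]
    (hsep : ∀ k k' : K, k ≠ k' → ∃ U V : Set X, IsOpen U ∧ IsOpen V ∧ j k ∈ U ∧ j k' ∈ V ∧ Disjoint U V)
    (w : Sect G' ⊤) : ∃ (U : Opens Y) (t : Sect G ((Opens.map f).obj U)), y ∈ U ∧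
      ∀ k : K, ∃ hk : f (j k) ∈ U, germ G' k hk (pl u _ t) = germ G' k (Opens.mem_top k) w := by
  obtain ⟨O, t, h⟩ := exists_lift hu hsep w isClosed_univ (fun k _ => Opens.mem_top k)
  obtain ⟨U, hy, hU⟩ := exists_preimage_le f y j hf hsurj O fun k => (h k trivial).1
  refine ⟨U, rs G hU t, hy, fun k => ?_⟩
  obtain ⟨hO, _, e⟩ := h k trivial
  have hk : f (j k) ∈ U := (hfK k).symm ▸ hy
  refine ⟨hk, ?_⟩
  rw [← germ_pl u _ k hk, germ_rs, germ_pl u t k (hU hk), e]

end Near

/-- The stalk functor on sheaves. -/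
noncomputable abbrev stk (y : Y) : CohTop.Ab Y ⥤ AddCommGrpCat.{u} :=
  sheafToPresheaf (Opens.grothendieckTopology Y) AddCommGrpCat.{u} ⋙ TopCat.Presheaf.stalkFunctor AddCommGrpCat.{u} y

/-- Global sections. -/
noncomputable abbrev secTop (K : TopCat.{u}) : CohTop.Ab K ⥤ AddCommGrpCat.{u} :=
  sheafToPresheaf (Opens.grothendieckTopology K) AddCommGrpCat.{u} ⋙ (evaluation _ _).obj (op ⊤)

theorem nonempty_rightDerived_secTop (M : CohTop.Ab K) (n : ℕ) :
    Nonempty (((secTop K).rightDerived n).obj M ≅ AddCommGrpCat.of (CohTop.H M n)) := by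
  obtain ⟨e⟩ := SiteCoh.nonempty_rightDerived_iso (J := Opens.grothendieckTopology K) M n
  exact ⟨SiteCoh.rightDerivedCompIso (sheafToPresheaf (Opens.grothendieckTopology K) AddCommGrpCat.{u})
      ((evaluation _ _).obj (op ⊤)) n M ≪≫ ((evaluation _ _).obj (op ⊤)).mapIso e ≪≫
    AddEquiv.toAddCommGrpIso (SiteCoh.hEquiv (TopCoh.topTerminal K) M n).symm⟩

theorem isZero_rightDerived_secTop_of_soft [CompactSpace K] [T2Space K] (M : CohTop.Ab K) (hM : IsSoft M)
    (q : ℕ) (hq : 0 < q) : IsZero (((secTop K).rightDerived q).obj M) := by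
  obtain ⟨q, rfl⟩ := Nat.exists_eq_succ_of_ne_zero hq.ne'
  obtain ⟨e⟩ := nonempty_rightDerived_secTop M (q + 1)
  have := subsingleton_H_of_soft M hM q
  exact IsZero.of_iso (AddCommGrpCat.isZero_of_subsingleton _) e

variable (hfK : ∀ k : K, f (j k) = y)

include hfK in
theorem le_pre {U : Opens Y} (hy : y ∈ U) : (⊤ : Opens K) ≤ (Opens.map j).obj ((Opens.map f).obj U) :=
  fun k _ => (show f (j k) ∈ U from (hfK k).symm ▸ hy)

/-- Restriction of sections to the fibre. -/
noncomputable def toFibre (G : CohTop.Ab X) :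
    (stk y).obj ((CohTop.push f).obj G) ⟶ (secTop K).obj ((CohTop.pull j).obj G) :=
  colimit.desc _
    { pt := (secTop K).obj ((CohTop.pull j).obj G)
      ι :=
        { app := fun U => ((TopCat.Sheaf.pullbackPushforwardAdjunction AddCommGrpCat.{u} j).unit.app G).hom.app
              (op ((Opens.map f).obj U.unop.1)) ≫
            ((CohTop.pull j).obj G).obj.map (homOfLE (le_pre f y j hfK U.unop.2)).op
          naturality := fun U V i => by
            refine Eq.trans ?_ (Category.comp_id _).symm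
            refine AddCommGrpCat.hom_ext (AddMonoidHom.ext fun t => ?_)
            change rs ((CohTop.pull j).obj G) (le_pre f y j hfK V.unop.2)
              (pl ((TopCat.Sheaf.pullbackPushforwardAdjunction AddCommGrpCat.{u} j).unit.app G) _
                (rs G ((Opens.map f).monotone i.unop.le) t)) = rs _ _ (pl _ _ t)
            refine sect_ext _ _ _ fun k _ => ?_
            have hk : j k ∈ (Opens.map f).obj V.unop.1 := le_pre f y j hfK V.unop.2 (Opens.mem_top k)
            refine (germ_rs _ _ _ _ _).trans (Eq.trans ?_ (germ_rs _ _ _ _ _).symm)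
            refine (germ_pl _ _ k hk).symm.trans ((congrArg _ ?_).trans (germ_pl _ _ k _))
            exact germ_rs G ((Opens.map f).monotone i.unop.le) (j k) hk t } }

theorem toFibre_germ (G : CohTop.Ab X) (U : Opens Y) (hy : y ∈ U) (t : Sect G ((Opens.map f).obj U)) :
    toFibre f y j hfK G (germ ((CohTop.push f).obj G) y hy t) =
      rs ((CohTop.pull j).obj G) (le_pre f y j hfK hy)
        (pl ((TopCat.Sheaf.pullbackPushforwardAdjunction AddCommGrpCat.{u} j).unit.app G) _ t) :=
  ConcreteCategory.congr_hom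
    (colimit.ι_desc (F := ((Functor.whiskeringLeft _ _ _).obj (OpenNhds.inclusion y).op).obj ((CohTop.push f).obj G).obj)
      _ (op (⟨U, hy⟩ : OpenNhds y))) t

variable (hf : IsClosedMap f) (hsurj : ∀ x : X, f x = y → ∃ k : K, j k = x) [CompactSpace K]
  (hsep : ∀ k k' : K, k ≠ k' → ∃ U V : Set X, IsOpen U ∧ IsOpen V ∧ j k ∈ U ∧ j k' ∈ V ∧ Disjoint U V)

include hf hsurj hsep in
theorem bijective_toFibre (G : CohTop.Ab X) : Function.Bijective (toFibre f y j hfK G) := by
  have hu := isPullUnit_unit j G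
  refine ⟨(injective_iff_map_eq_zero _).2 fun z hz => ?_, fun w => ?_⟩
  · obtain ⟨U, hy, t, rfl⟩ := exists_germ ((CohTop.push f).obj G) y z
    rw [toFibre_germ] at hz
    obtain ⟨W, hW, hyW, h0⟩ := exists_vanish f y j hfK hf hsurj hu hy t fun k => by
      have := congrArg (germ ((CohTop.pull j).obj G) k (Opens.mem_top k)) hz
      rw [germ_rs, germ_zero] at this
      exact this
    exact (germ_rs ((CohTop.push f).obj G) hW y hyW t).symm.trans
      ((congrArg (germ ((CohTop.push f).obj G) y hyW) h0).trans (germ_zero _ _ _))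
  · obtain ⟨U, t, hy, h⟩ := exists_extend f y j hfK hf hsurj hu hsep w
    refine ⟨germ ((CohTop.push f).obj G) y hy t, ?_⟩
    rw [toFibre_germ]
    refine sect_ext _ _ _ fun k _ => ?_
    rw [germ_rs]
    exact (h k).2

/-- The stalk of a direct image is the sections on the fibre. -/
noncomputable def stalkPushIso : CohTop.push f ⋙ stk y ≅ CohTop.pull j ⋙ secTop K :=
  NatIso.ofComponents
    (fun G => @asIso _ _ _ _ (toFibre f y j hfK G)
      ((ConcreteCategory.isIso_iff_bijective _).2 (bijective_toFibre f y j hfK hf hsurj hsep G)))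
    (fun {G G'} φ => by
      refine TopCat.Presheaf.stalk_hom_ext _ fun U hy => ?_
      ext t
      change toFibre f y j hfK G' ((TopCat.Presheaf.stalkFunctor AddCommGrpCat.{u} y).map ((CohTop.push f).map φ).hom
        (germ ((CohTop.push f).obj G) y hy t)) = ((CohTop.pull j).map φ).hom.app (op ⊤)
          (toFibre f y j hfK G (germ ((CohTop.push f).obj G) y hy t))
      erw [TopCat.Presheaf.stalkFunctor_map_germ_apply]
      rw [toFibre_germ, toFibre_germ, ← rs_natural]
      refine congrArg (rs _ _) ?_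
      exact congr(($((TopCat.Sheaf.pullbackPushforwardAdjunction AddCommGrpCat.{u} j).unit.naturality φ)).hom.app
        (op ((Opens.map f).obj U)) t))

include hfK hf hsurj hsep in
/-- The stalk of a higher direct image is the cohomology of the fibre. -/
theorem nonempty_stalk_Rpush (F : CohTop.Ab X) (p : ℕ) :
    Nonempty (CohTop.stalk ((CohTop.Rpush f p).obj F) y ≅ AddCommGrpCat.of (CohTop.H ((CohTop.pull j).obj F) p)) := by
  have : PreservesFiniteLimits (CohTop.pull j) := TopCoh.pull_preservesFiniteLimits j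
  have : (CohTop.pull j).IsLeftAdjoint :=
    (TopCat.Sheaf.pullbackPushforwardAdjunction AddCommGrpCat.{u} j).isLeftAdjoint
  have : PreservesFiniteColimits (CohTop.pull j) :=
    have : PreservesColimitsOfSize.{0, 0} (CohTop.pull j) :=
      (TopCat.Sheaf.pullbackPushforwardAdjunction AddCommGrpCat.{u} j).leftAdjoint_preservesColimits
    PreservesColimitsOfSize.preservesFiniteColimits _
  have : (CohTop.pull j).Additive := Functor.additive_of_preserves_binary_products _
  classical
  have : PreservesColimitsOfSize.{0, 0} (stk y) :=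
    (stalkSkyscraperSheafAdjunction (C := AddCommGrpCat.{u}) y).leftAdjoint_preservesColimits
  have : PreservesFiniteColimits (stk y) := PreservesColimitsOfSize.preservesFiniteColimits _
  have : PreservesFiniteLimits (stk y) :=
    inferInstanceAs (PreservesFiniteLimits (TopCat.Sheaf.forget AddCommGrpCat.{u} Y ⋙ TopCat.Presheaf.stalkFunctor AddCommGrpCat.{u} y))
  have : (stk y).Additive := Functor.additive_of_preserves_binary_products _
  have : T2Space K := ⟨fun k k' h => by
    obtain ⟨U, U', hU, hU', h₁, h₂, hd⟩ := hsep k k' h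
    exact ⟨j ⁻¹' U, j ⁻¹' U', hU.preimage j.hom.continuous, hU'.preimage j.hom.continuous, h₁, h₂, hd.preimage j⟩⟩
  obtain ⟨e⟩ := nonempty_rightDerived_comp_exact (CohTop.pull j) (secTop K) (fun Q hQ q hq => by
    have := TopCoh.isFlasque_of_injective (X := X) Q
    exact isZero_rightDerived_secTop_of_soft _ (isSoft_of_pullUnit (G := Q) (isPullUnit_unit j Q) hsep) q hq) F p
  obtain ⟨e'⟩ := nonempty_rightDerived_secTop ((CohTop.pull j).obj F) p
  exact ⟨(SiteCoh.rightDerivedCompIso (CohTop.push f) (stk y) p F).symm ≪≫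
    (SiteCoh.rightDerivedCongr (stalkPushIso f y j hfK hf hsurj hsep) p).app F ≪≫ e ≪≫ e'⟩

end Groth.L10.Proper
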