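import Groth.Agent.L10.Proper.Near
import Groth.Agent.L10.TopCoh

/-! Soft sheaves on compact Hausdorff spaces. -/

universe u

open CategoryTheory CategoryTheory.Limits Opposite TopologicalSpace Topology CategoryTheory.Abelian

set_option backward.defeqAttrib.useBackward true
set_option backward.isDefEq.respectTransparency false
set_option autoImplicit false
namespace Groth.L10.Proper

variable {K : TopCat.{u}}

/-- Sections near closed subsets extend. -/
def IsSoft (M : CohTop.Ab K) : Prop :=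
  ∀ (A : Set K), IsClosed A → ∀ (V : Opens K) (w : Sect M V) (hA : A ⊆ V),
    ∃ s : Sect M ⊤, ∀ (a : K) (ha : a ∈ A), germ M a (Opens.mem_top a) s = germ M a (hA ha) w

theorem exists_top_of_flasque {X : TopCat.{u}} (G : CohTop.Ab X) [TopCat.Sheaf.IsFlasque G] {O : Opens X}
    (t : Sect G O) : ∃ s : Sect G ⊤, rs G le_top s = t :=
  (AddCommGrpCat.epi_iff_surjective _).1 (TopCat.Presheaf.IsFlasque.epi (F := G.obj) (homOfLE le_top).op) t

/-- The restriction of a flasque sheaf to a relatively Hausdorff compact subspace is soft. -/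
theorem isSoft_of_pullUnit [CompactSpace K] {X : TopCat.{u}} {j : K ⟶ X} {G : CohTop.Ab X} {G' : CohTop.Ab K}
    {u : G ⟶ (CohTop.push j).obj G'} (hu : IsPullUnit j u)
    (hsep : ∀ k k' : K, k ≠ k' → ∃ U V : Set X, IsOpen U ∧ IsOpen V ∧ j k ∈ U ∧ j k' ∈ V ∧ Disjoint U V)
    [TopCat.Sheaf.IsFlasque G] : IsSoft G' := fun A hA V w hAV => by
  obtain ⟨O, t, h⟩ := exists_lift hu hsep w hA hAV
  obtain ⟨s, rfl⟩ := exists_top_of_flasque G t
  refine ⟨pl u ⊤ s, fun a ha => ?_⟩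
  obtain ⟨hO, _, e⟩ := h a ha
  refine Eq.trans ?_ e
  exact (germ_pl u s a trivial).symm.trans ((congrArg _ (germ_rs G le_top _ hO s).symm).trans (germ_pl u _ a hO))

theorem isPullUnit_id (M : CohTop.Ab K) :
    IsPullUnit (𝟙 K) (ObjectProperty.homMk { app := fun _ => 𝟙 _ } : M ⟶ (CohTop.push (𝟙 K)).obj M) := fun k => by
  have h : ∀ z, stalkComp (𝟙 K) (ObjectProperty.homMk { app := fun _ => 𝟙 _ } : M ⟶ (CohTop.push (𝟙 K)).obj M) k z = z :=
    fun z => by
      obtain ⟨U, hU, s, rfl⟩ := exists_germ M _ z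
      exact stalkComp_germ (𝟙 K) (G := M) (G' := M) _ k U hU s
  exact ⟨fun a b e => (h a).symm.trans (e.trans (h b)), fun b => ⟨b, h b⟩⟩

/-- Flasque sheaves are soft. -/
theorem isSoft_of_flasque [CompactSpace K] [T2Space K] (M : CohTop.Ab K) [TopCat.Sheaf.IsFlasque M] : IsSoft M :=
  isSoft_of_pullUnit (isPullUnit_id M) fun k k' h => by
    obtain ⟨U, V, hU, hV, h₁, h₂, hd⟩ := t2_separation h
    exact ⟨U, V, hU, hV, h₁, h₂, hd⟩

variable {S : ShortComplex (CohTop.Ab K)}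

theorem germ_natural {M N : CohTop.Ab K} (φ : M ⟶ N) {U : Opens K} (x : K) (hx : x ∈ U) (s : Sect M U) :
    germ N x hx (φ.hom.app (op U) s) =
      (TopCat.Presheaf.stalkFunctor AddCommGrpCat.{u} x).map φ.hom (germ M x hx s) :=
  (TopCat.Presheaf.stalkFunctor_map_germ_apply (C := AddCommGrpCat.{u}) (X := K) U x hx φ.hom s).symm

theorem rs_natural {M N : CohTop.Ab K} (φ : M ⟶ N) {U V : Opens K} (h : V ≤ U) (s : Sect M U) :
    rs N h (φ.hom.app (op U) s) = φ.hom.app (op V) (rs M h s) :=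
  (NatTrans.naturality_apply φ.hom (homOfLE h).op s).symm

/-- Sections of the quotient by a soft sheaf lift near closed subsets. -/
theorem exists_lift_quotient [CompactSpace K] [T2Space K] (hS : S.ShortExact) (h₁ : IsSoft S.X₁)
    {V : Opens K} (w : Sect S.X₃ V) {A : Set K} (hA : IsClosed A) (hAV : A ⊆ V) :
    ∃ (O : Opens K) (t : Sect S.X₂ O), ∀ (a : K) (ha : a ∈ A), ∃ hO : a ∈ O,
      germ S.X₃ a hO (S.g.hom.app (op O) t) = germ S.X₃ a (hAV ha) w := by
  let P : Set K → Prop := fun B => ∀ hB : B ⊆ V, ∃ (O : Opens K) (t : Sect S.X₂ O), ∀ (a : K) (ha : a ∈ B), ∃ hO : a ∈ O,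
    germ S.X₃ a hO (S.g.hom.app (op O) t) = germ S.X₃ a (hB ha) w
  have := hA.isCompact.induction_on (p := fun s : Set K => P (A ∩ closure s)) ?_ ?_ ?_ ?_
  · obtain ⟨O, t, h⟩ := this (fun a ha => hAV ha.1)
    exact ⟨O, t, fun a ha => h a ⟨ha, subset_closure ha⟩⟩
  · exact fun _ => ⟨⊥, 0, fun a ha => by simp at ha⟩
  · intro s t hst hp hB
    obtain ⟨O, x, h⟩ := hp (fun a ha => hAV ha.1)
    exact ⟨O, x, fun a ha => h a ⟨ha.1, closure_mono hst ha.2⟩⟩
  · intro s t hs ht hB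
    obtain ⟨O₁, t₁, e₁⟩ := hs (fun a ha => hAV ha.1)
    obtain ⟨O₂, t₂, e₂⟩ := ht (fun a ha => hAV ha.1)
    let d := rs S.X₂ (inf_le_left : O₁ ⊓ O₂ ≤ O₁) t₁ - rs S.X₂ (inf_le_right : O₁ ⊓ O₂ ≤ O₂) t₂
    obtain ⟨Z, hZ, hZ0, hZmem⟩ := exists_zeroLocus S.X₃ (S.g.hom.app (op (O₁ ⊓ O₂)) d)
    obtain ⟨e, he⟩ := TopCat.Sheaf.sections_exact_of_left_exact hS.1 hS.2 (U := Z) (rs S.X₂ hZ d)
      ((rs_natural S.g hZ d).symm.trans hZ0)
    have hsub : (A ∩ closure s) ∩ (A ∩ closure t) ⊆ Z := fun a ha => by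
      obtain ⟨m₁, q₁⟩ := e₁ a ha.1
      obtain ⟨m₂, q₂⟩ := e₂ a ha.2
      refine hZmem a ⟨m₁, m₂⟩ ?_
      rw [germ_natural, germ_sub, map_sub, germ_rs, germ_rs, ← germ_natural, ← germ_natural, q₁, q₂, sub_self]
    obtain ⟨g, hg⟩ := h₁ _ ((hA.inter isClosed_closure).inter (hA.inter isClosed_closure)) Z e hsub
    let t₂' := t₂ + S.f.hom.app (op O₂) (rs S.X₁ le_top g)
    obtain ⟨O, x, x₁, x₂⟩ := exists_glue_near S.X₂ (hA.inter (isClosed_closure (s := s))).isCompact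
      (hA.inter (isClosed_closure (s := t))).isCompact (fun a _ b _ hab => t2_separation hab) t₁ t₂'
      (fun a ha => (e₁ a ha).1) (fun a ha => (e₂ a ha).1) (fun a a₁ a₂ => by
        have q := congrArg (germ S.X₂ a (hsub ⟨a₁, a₂⟩)) he
        rw [germ_natural, ← hg a ⟨a₁, a₂⟩, germ_rs, germ_sub, germ_rs, germ_rs] at q
        rw [show germ S.X₂ a (e₂ a a₂).1 t₂' = germ S.X₂ a (e₂ a a₂).1 t₂ +
          germ S.X₂ a (e₂ a a₂).1 (S.f.hom.app (op O₂) (rs S.X₁ le_top g)) from map_add _ _ _, germ_natural, germ_rs, q]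
        abel)
    refine ⟨O, x, fun a ha => ?_⟩
    have : a ∈ A ∩ closure s ∨ a ∈ A ∩ closure t := by
      rw [closure_union, Set.inter_union_distrib_left] at ha
      exact ha
    rcases this with h | h
    · obtain ⟨m, q⟩ := e₁ a h
      obtain ⟨mO, r⟩ := x₁ a h
      exact ⟨mO, by rw [germ_natural, r, ← germ_natural]; exact q⟩
    · obtain ⟨m, q⟩ := e₂ a h
      obtain ⟨mO, r⟩ := x₂ a h
      have hz : S.g.hom.app (op O₂) (S.f.hom.app (op O₂) (rs S.X₁ le_top g)) = 0 :=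
        congr(($(S.zero)).hom.app (op O₂) (rs S.X₁ le_top g))
      exact ⟨mO, by rw [germ_natural, r, ← germ_natural, map_add, hz, add_zero]; exact q⟩
  · intro a ha
    have := hS.epi_g
    obtain ⟨R, hR⟩ := SiteCoh.locally_surjective_of_epi (J := Opens.grothendieckTopology K) S.g w
    obtain ⟨W, ι, hι, haW⟩ := R.2 a (hAV ha)
    obtain ⟨t, ht⟩ := hR ⟨W, ι, hι⟩
    obtain ⟨C, hC, hCc, hCW⟩ := exists_mem_nhds_isClosed_subset (W.isOpen.mem_nhds haW)
    refine ⟨C, nhdsWithin_le_nhds hC, fun hB => ⟨W, t, fun b hb => ?_⟩⟩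
    have hbW : b ∈ W := hCW (hCc.closure_subset hb.2)
    refine ⟨hbW, ?_⟩
    exact (congrArg (germ S.X₃ b hbW) ht).trans (germ_rs S.X₃ ι.le b hbW w)

/-- Global sections of the quotient by a soft sheaf lift. -/
theorem surjective_top [CompactSpace K] [T2Space K] (hS : S.ShortExact) (h₁ : IsSoft S.X₁) :
    Function.Surjective (S.g.hom.app (op ⊤)) := fun w => by
  obtain ⟨O, t, h⟩ := exists_lift_quotient hS h₁ w isClosed_univ (fun a _ => Opens.mem_top a)
  have hO : (⊤ : Opens K) ≤ O := fun a _ => (h a trivial).1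
  refine ⟨rs S.X₂ hO t, sect_ext _ _ _ fun a _ => ?_⟩
  obtain ⟨m, q⟩ := h a trivial
  rw [germ_natural, germ_rs, ← germ_natural]
  exact q

/-- Quotients of soft sheaves by soft sheaves are soft. -/
theorem isSoft_quotient [CompactSpace K] [T2Space K] (hS : S.ShortExact) (h₁ : IsSoft S.X₁) (h₂ : IsSoft S.X₂) :
    IsSoft S.X₃ := fun A hA V w hAV => by
  obtain ⟨O, t, h⟩ := exists_lift_quotient hS h₁ w hA hAV
  obtain ⟨s, hs⟩ := h₂ A hA O t fun a ha => (h a ha).1
  refine ⟨S.g.hom.app (op ⊤) s, fun a ha => ?_⟩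
  obtain ⟨m, q⟩ := h a ha
  rw [germ_natural, hs a ha, ← germ_natural]
  exact q

/-- Soft sheaves on compact Hausdorff spaces are acyclic. -/
theorem subsingleton_ext_of_soft [CompactSpace K] [T2Space K] (M : CohTop.Ab K) (hM : IsSoft M) (n : ℕ) :
    Subsingleton (Ext (SiteCoh.fs (Opens.grothendieckTopology K) ⊤) M (n + 1)) :=
  SiteCoh.subsingleton_of_class (J := Opens.grothendieckTopology K) IsSoft ⊤
    (fun S hS h => surjective_top hS h)
    (fun S hS h hI => isSoft_quotient hS h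
      (have := TopCoh.isFlasque_of_injective (X := K) S.X₂; isSoft_of_flasque S.X₂))
    M hM n

theorem subsingleton_H_of_soft [CompactSpace K] [T2Space K] (M : CohTop.Ab K) (hM : IsSoft M) (n : ℕ) :
    Subsingleton (CohTop.H M (n + 1)) :=
  have := subsingleton_ext_of_soft M hM n
  (SiteCoh.hEquiv (TopCoh.topTerminal K) M (n + 1)).toEquiv.subsingleton

end Groth.L10.Proper
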